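import Groth.Agent.H11Proj.ProjSpace
import Groth.Agent.H11Proj.ProjMap
import Groth.Agent.H22Alg.PnBC
import Mathlib.LinearAlgebra.Matrix.NonsingularInverse

/-!
# Rational points of the projective line and linear substitutions
-/

set_option autoImplicit false
set_option linter.style.haveILetI false
set_option backward.isDefEq.respectTransparency false
set_option backward.isDefEq.respectTransparency.types false

universe u

open CategoryTheory CategoryTheory.Limits AlgebraicGeometry
open MvPolynomial HomogeneousLocalization CohB1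

namespace Groth.Agent.H17.GenusZeroSt

noncomputable section

open H11Proj.ProjSpace

variable (n : ℕ) (K : Type u) [Field K]

/-- A linear form. -/
def lform (v : Fin (n + 1) → K) : MvPolynomial (Fin (n + 1)) K := ∑ i, C (v i) * X i

theorem lform_mem (v : Fin (n + 1) → K) : lform n K v ∈ polyGrading n K 1 :=
  Submodule.sum_mem _ fun i _ => (mem_homogeneousSubmodule 1 _).2 (by
    simpa using (isHomogeneous_C (Fin (n + 1)) (v i)).mul (isHomogeneous_X K i))

theorem lform_single (i : Fin (n + 1)) : lform n K (Pi.single i 1) = X i := by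
  rw [lform, Finset.sum_eq_single i (fun j _ hj => by rw [Pi.single_eq_of_ne hj, map_zero, zero_mul])
    (fun h => absurd (Finset.mem_univ i) h), Pi.single_eq_same, map_one, one_mul]

theorem lform_smul (c : K) (v : Fin (n + 1) → K) : lform n K (c • v) = C c * lform n K v := by
  simp [lform, Finset.mul_sum, mul_assoc]

/-- The linear substitution given by the rows of a matrix. -/
def subst (A : Matrix (Fin (n + 1)) (Fin (n + 1)) K) : polyGrading n K →+*ᵍ polyGrading n K where
  toRingHom := (MvPolynomial.aeval fun i => lform n K (A i) :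
    MvPolynomial (Fin (n + 1)) K →ₐ[K] MvPolynomial (Fin (n + 1)) K).toRingHom
  map_mem {i p} hp := (mem_homogeneousSubmodule i _).2 (by
    have := ((mem_homogeneousSubmodule i p).1 hp).aeval (S := K) (fun j => lform n K (A j))
      (fun j => (mem_homogeneousSubmodule 1 _).1 (lform_mem n K (A j)))
    simpa using this)

theorem subst_apply (A : Matrix (Fin (n + 1)) (Fin (n + 1)) K) (p : MvPolynomial (Fin (n + 1)) K) :
    subst n K A p = MvPolynomial.aeval (fun i => lform n K (A i)) p := rfl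

theorem subst_subst (A B : Matrix (Fin (n + 1)) (Fin (n + 1)) K) (p : MvPolynomial (Fin (n + 1)) K) :
    subst n K A (subst n K B p) = subst n K (B * A) p := by
  have h : ((subst n K A).toRingHom.comp (subst n K B).toRingHom) = (subst n K (B * A)).toRingHom := by
    refine MvPolynomial.ringHom_ext (fun r => ?_) (fun i => ?_)
    · show subst n K A (subst n K B (C r)) = subst n K (B * A) (C r)
      simp [subst_apply]
    · show subst n K A (subst n K B (X i)) = subst n K (B * A) (X i)
      simp only [subst_apply, aeval_X]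
      simp only [lform, map_sum, map_mul, aeval_C, aeval_X, Matrix.mul_apply, Finset.mul_sum,
        Finset.sum_mul, MvPolynomial.algebraMap_eq, map_sum]
      rw [Finset.sum_comm]
      exact Finset.sum_congr rfl fun j _ => Finset.sum_congr rfl fun m _ => (mul_assoc _ _ _).symm
  exact RingHom.congr_fun h p

theorem subst_one (p : MvPolynomial (Fin (n + 1)) K) : subst n K 1 p = p := by
  rw [subst_apply]
  have : (fun i => lform n K ((1 : Matrix (Fin (n + 1)) (Fin (n + 1)) K) i)) = X := funext fun i => by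
    rw [show (1 : Matrix (Fin (n + 1)) (Fin (n + 1)) K) i = Pi.single i 1 from funext fun j => by
      simp [Matrix.one_apply, Pi.single_apply, eq_comm], lform_single]
  rw [this, aeval_X_left_apply]

theorem irrelevant_le_subst (A B : Matrix (Fin (n + 1)) (Fin (n + 1)) K) (h : B * A = 1) :
    HomogeneousIdeal.irrelevant (polyGrading n K) ≤
      (HomogeneousIdeal.irrelevant (polyGrading n K)).map (subst n K A) := by
  show (HomogeneousIdeal.irrelevant (polyGrading n K)).toIdeal ≤
    ((HomogeneousIdeal.irrelevant (polyGrading n K)).map (subst n K A)).toIdeal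
  rw [HomogeneousIdeal.toIdeal_irrelevant_le]
  intro i hi p hp
  change p ∈ Ideal.map (subst n K A) (HomogeneousIdeal.irrelevant (polyGrading n K)).toIdeal
  have hp' : subst n K A (subst n K B p) = p := by rw [subst_subst, h, subst_one]
  rw [← hp']
  exact Ideal.mem_map_of_mem _ (HomogeneousIdeal.mem_irrelevant_of_mem _ hi ((subst n K B).map_mem hp))

/-- The automorphism of projective space given by an invertible matrix, on all basic opens. -/
theorem exists_aut_subst (A : Matrix (Fin (n + 1)) (Fin (n + 1)) K) (hA : IsUnit A) :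
    ∃ σ : ProjSpace n K ≅ ProjSpace n K, σ.hom ≫ ProjSpace.toSpec n K = ProjSpace.toSpec n K ∧
      ∀ (g : MvPolynomial (Fin (n + 1)) K) (x : ProjSpace n K),
        σ.hom x ∈ Proj.basicOpen (polyGrading n K) g ↔ x ∈ Proj.basicOpen (polyGrading n K) (subst n K A g) := by
  obtain ⟨u, rfl⟩ := hA
  have h₁ := irrelevant_le_subst n K u.1 u⁻¹.1 u.inv_mul
  have h₂ := irrelevant_le_subst n K u⁻¹.1 u.1 u.mul_inv
  have hinv : ∀ (A B : Matrix (Fin (n + 1)) (Fin (n + 1)) K) (hA : _) (hB : _), B * A = 1 →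
      Proj.map (subst n K A) hA ≫ Proj.map (subst n K B) hB = 𝟙 (Proj (polyGrading n K)) := by
    intro A B hA hB h
    rw [← Proj.map_comp]
    refine Eq.trans ?_ (Proj.map_id (𝒜 := polyGrading n K))
    congr 1
    refine DFunLike.ext _ _ fun p => ?_
    show subst n K A (subst n K B p) = p
    rw [subst_subst, h, subst_one]
  refine ⟨⟨Proj.map (subst n K u.1) h₁, Proj.map (subst n K u⁻¹.1) h₂, hinv _ _ h₁ h₂ u.inv_mul,
    hinv _ _ h₂ h₁ u.mul_inv⟩, ?_, fun g x => ?_⟩
  · show Proj.map (subst n K u.1) h₁ ≫ Proj.toSpecZero _ ≫ _ = _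
    rw [H11Proj.map_toSpecZero_assoc, ← Spec.map_comp]
    congr 1
    congr 1
    refine CommRingCat.hom_ext (RingHom.ext fun (r : K) => Subtype.ext ?_)
    show subst n K u.1 (algebraMap K (MvPolynomial (Fin (n + 1)) K) r) = algebraMap K _ r
    rw [subst_apply]
    exact AlgHom.commutes _ r
  · show x ∈ Proj.map (subst n K u.1) h₁ ⁻¹ᵁ Proj.basicOpen (polyGrading n K) g ↔ _
    rw [Proj.map_preimage_basicOpen]

/-- The automorphism of projective space given by an invertible matrix. -/
theorem exists_aut (A : Matrix (Fin (n + 1)) (Fin (n + 1)) K) (hA : IsUnit A) :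
    ∃ σ : ProjSpace n K ≅ ProjSpace n K, σ.hom ≫ ProjSpace.toSpec n K = ProjSpace.toSpec n K ∧
      ∀ (i : Fin (n + 1)) (x : ProjSpace n K),
        σ.hom x ∈ Proj.basicOpen (polyGrading n K) (X i) ↔ x ∈ Proj.basicOpen (polyGrading n K) (lform n K (A i)) := by
  obtain ⟨σ, hσ, hσ'⟩ := exists_aut_subst n K A hA
  refine ⟨σ, hσ, fun i x => ?_⟩
  rw [hσ', subst_apply, aeval_X]

variable {K}

/-- A rational point in a chart, as a substitution of values. -/
theorem exists_chart_point (s : Spec (CommRingCat.of K) ⟶ ProjSpace n K) (hs : s ≫ ProjSpace.toSpec n K = 𝟙 _) :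
    ∃ (i : Fin (n + 1)) (v : Away (polyGrading n K) (X i) →+* K),
      s = Spec.map (CommRingCat.ofHom v) ≫ Proj.awayι (polyGrading n K) (X i) (X_mem n K i) one_pos ∧
      ∀ r, v (chartMap n K i (C r)) = r := by
  let x : (Spec (CommRingCat.of K) : Scheme.{u}) := IsLocalRing.closedPoint K
  obtain ⟨i, hi⟩ := TopologicalSpace.Opens.mem_iSup.1
    ((iSup_basicOpen n K).ge (Set.mem_univ (s x)) : s x ∈ ⨆ i : Fin (n + 1), Proj.basicOpen (polyGrading n K) (X i))
  let a := Proj.awayι (polyGrading n K) (X i) (X_mem n K i) one_pos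
  have hr : Set.range s ⊆ Set.range a := by
    rintro _ ⟨y, rfl⟩
    rw [show y = x from Subsingleton.elim (α := PrimeSpectrum K) _ _]
    exact (SetLike.le_def.1 (Proj.opensRange_awayι (polyGrading n K) (X i) (X_mem n K i) one_pos).ge hi : _)
  let w := Spec.preimage (IsOpenImmersion.lift a s hr)
  have hw : s = Spec.map w ≫ a := by
    rw [Spec.map_preimage, IsOpenImmersion.lift_fac]
  refine ⟨i, w.hom, hw, fun r => ?_⟩
  have h := hs
  rw [hw, Category.assoc] at h
  erw [awayι_toSpec] at h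
  rw [← Spec.map_comp, ← Spec.map_id] at h
  exact RingHom.congr_fun (congrArg CommRingCat.Hom.hom (Spec.map_injective h)) r

/-- Membership of a rational point in the open of a linear form. -/
theorem mem_basicOpen_iff {i : Fin (n + 1)} (v : Away (polyGrading n K) (X i) →+* K)
    {l : MvPolynomial (Fin (n + 1)) K} (hl : l ∈ polyGrading n K 1) (y) :
    (Spec.map (CommRingCat.ofHom v) ≫ Proj.awayι (polyGrading n K) (X i) (X_mem n K i) one_pos) y ∈
        Proj.basicOpen (polyGrading n K) l ↔ v (chartMap n K i (dehom n K i l)) ≠ 0 := by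
  rw [Scheme.Hom.comp_apply]
  show Spec.map (CommRingCat.ofHom v) y ∈
    Proj.awayι (polyGrading n K) (X i) (X_mem n K i) one_pos ⁻¹ᵁ Proj.basicOpen (polyGrading n K) l ↔ _
  rw [Proj.awayι_preimage_basicOpen (polyGrading n K) (X_mem n K i) one_pos hl one_pos]
  have h : Away.isLocalizationElem (X_mem n K i) hl = chartMap n K i (dehom n K i l) := by
    have hl' : l ∈ polyGrading n K (1 • 1) := by rwa [one_smul]
    rw [← RingHom.comp_apply, chartMap_comp_dehom, H11Proj.awayProjHom_mk _ _ hl']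
    apply val_injective
    rw [Away.val_mk, Away.val_mk]
    simp
  change v (Away.isLocalizationElem (X_mem n K i) hl) ∉ y.asIdeal ↔ _
  rw [h, Subsingleton.elim (α := PrimeSpectrum K) y ⊥]
  simp

/-- The second index. -/
theorem fin_two_eq {i j m : Fin (1 + 1)} (hm : m ≠ i) (hj : j ≠ i) : m = j := by
  omega

/-- A rational point of the line lies outside the open of some nonzero linear form. -/
theorem exists_vanishing (s : Spec (CommRingCat.of K) ⟶ ProjSpace 1 K) (hs : s ≫ ProjSpace.toSpec 1 K = 𝟙 _) :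
    ∃ l : Fin (1 + 1) → K, l ≠ 0 ∧ ∀ y, s y ∉ Proj.basicOpen (polyGrading 1 K) (lform 1 K l) := by
  obtain ⟨i, v, rfl, hv⟩ := exists_chart_point 1 s hs
  obtain ⟨j, hj⟩ := exists_ne i
  let c : K := v (chartMap 1 K i (X ⟨j, hj⟩))
  refine ⟨Pi.single j 1 - c • Pi.single i 1, fun h => ?_, fun y h => ?_⟩
  · have := congrFun h j
    simp [hj] at this
  · refine (mem_basicOpen_iff 1 v (lform_mem 1 K _) y).1 h ?_
    have : lform 1 K (Pi.single j 1 - c • Pi.single i 1) = X j - C c * X i := by
      rw [← lform_single 1 K j, ← lform_single 1 K i, ← lform_smul]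
      simp [lform, Finset.sum_sub_distrib, sub_mul]
    rw [this]
    simp only [map_sub, map_mul, dehom, eval₂Hom_X', eval₂Hom_C, dif_neg hj, dif_pos]
    rw [hv]
    simp [c]

/-- A rational point of the line outside the open of a coordinate is unique. -/
theorem eq_of_notMem {j : Fin (1 + 1)} (s t : Spec (CommRingCat.of K) ⟶ ProjSpace 1 K)
    (hs : s ≫ ProjSpace.toSpec 1 K = 𝟙 _) (ht : t ≫ ProjSpace.toSpec 1 K = 𝟙 _)
    (hs' : ∀ y, s y ∉ Proj.basicOpen (polyGrading 1 K) (X j))
    (ht' : ∀ y, t y ∉ Proj.basicOpen (polyGrading 1 K) (X j)) : s = t := by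
  have key : ∀ (s : Spec (CommRingCat.of K) ⟶ ProjSpace 1 K), s ≫ ProjSpace.toSpec 1 K = 𝟙 _ →
      (∀ y, s y ∉ Proj.basicOpen (polyGrading 1 K) (X j)) →
      ∀ i, i ≠ j → ∃ v : Away (polyGrading 1 K) (X i) →+* K,
        s = Spec.map (CommRingCat.ofHom v) ≫ Proj.awayι (polyGrading 1 K) (X i) (X_mem 1 K i) one_pos ∧
        (∀ r, v (chartMap 1 K i (C r)) = r) ∧ ∀ m, v (chartMap 1 K i (X m)) = 0 := by
    intro s hs hs' i hij
    obtain ⟨i', v, rfl, hv⟩ := exists_chart_point 1 s hs
    have hi' : i' ≠ j := by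
      rintro rfl
      refine hs' (IsLocalRing.closedPoint K) ((mem_basicOpen_iff 1 v (X_mem 1 K _) _).2 ?_)
      simp [dehom]
    obtain rfl : i' = i := fin_two_eq hi' hij
    refine ⟨v, rfl, hv, fun m => ?_⟩
    have hmj : m.1 = j := fin_two_eq m.2 hij.symm
    by_contra hne
    refine hs' (IsLocalRing.closedPoint K) ((mem_basicOpen_iff 1 v (X_mem 1 K _) _).2 ?_)
    simp only [dehom, eval₂Hom_X', dif_neg hij.symm]
    have : (⟨j, hij.symm⟩ : {k // k ≠ i'}) = m := Subtype.ext hmj.symm
    rw [this]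
    exact hne
  obtain ⟨i, hi⟩ := exists_ne j
  obtain ⟨v, rfl, hv, hv'⟩ := key s hs hs' i hi
  obtain ⟨w, rfl, hw, hw'⟩ := key t ht ht' i hi
  have : v = w := by
    refine RingHom.ext fun q => ?_
    obtain ⟨p, rfl⟩ := (chartMap_bijective 1 K i).2 q
    refine RingHom.congr_fun (MvPolynomial.ringHom_ext (f := v.comp (chartMap 1 K i))
      (g := w.comp (chartMap 1 K i)) (fun r => ?_) (fun m => ?_)) p
    · simp [hv, hw]
    · simp [hv', hw']
  rw [this]

theorem exists_matrix_of_ne_zero (l : Fin (1 + 1) → K) (hl : l ≠ 0) (j : Fin (1 + 1)) :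
    ∃ A : Matrix (Fin (1 + 1)) (Fin (1 + 1)) K, IsUnit A ∧ A j = l := by
  obtain ⟨i, hi⟩ := exists_ne j
  obtain ⟨m, hm⟩ := Function.ne_iff.1 hl
  obtain ⟨m', hm'⟩ := exists_ne m
  let A : Matrix (Fin (1 + 1)) (Fin (1 + 1)) K := fun a => if a = j then l else Pi.single m' 1
  refine ⟨A, ?_, if_pos rfl⟩
  rw [Matrix.isUnit_iff_isUnit_det, isUnit_iff_ne_zero, Matrix.det_fin_two]
  simp only [Pi.zero_apply] at hm
  fin_cases j <;> fin_cases m <;> fin_cases i <;> fin_cases m' <;>
    simp_all [A, Pi.single_apply]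

/-- Distinct rational points of the line can be moved to the coordinate points. -/
theorem exists_aut_pair (p q : Spec (CommRingCat.of K) ⟶ ProjSpace 1 K)
    (hp : p ≫ ProjSpace.toSpec 1 K = 𝟙 _) (hq : q ≫ ProjSpace.toSpec 1 K = 𝟙 _)
    (hpq : ∃ y, p y ≠ q y) :
    ∃ σ : ProjSpace 1 K ≅ ProjSpace 1 K, σ.hom ≫ ProjSpace.toSpec 1 K = ProjSpace.toSpec 1 K ∧
      (∀ y, σ.hom (p y) ∉ Proj.basicOpen (polyGrading 1 K) (X 1)) ∧
      ∀ y, σ.hom (q y) ∉ Proj.basicOpen (polyGrading 1 K) (X 0) := by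
  obtain ⟨lp, hlp, hp'⟩ := exists_vanishing p hp
  obtain ⟨lq, hlq, hq'⟩ := exists_vanishing q hq
  by_cases hli : LinearIndependent K ![lq, lp]
  · let A : Matrix (Fin (1 + 1)) (Fin (1 + 1)) K := ![lq, lp]
    have hA : IsUnit A := Matrix.linearIndependent_rows_iff_isUnit.1 hli
    obtain ⟨σ, hσ, hσ'⟩ := exists_aut 1 K A hA
    exact ⟨σ, hσ, fun y h => hp' y ((hσ' 1 _).1 h), fun y h => hq' y ((hσ' 0 _).1 h)⟩
  · exfalso
    rw [LinearIndependent.pair_iff' hlq] at hli
    push Not at hli
    obtain ⟨c, rfl⟩ := hli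
    have hq'' : ∀ y, q y ∉ Proj.basicOpen (polyGrading 1 K) (lform 1 K (c • lq)) := fun y h => by
      apply hq' y
      rw [Proj.mem_basicOpen] at h ⊢
      rw [lform_smul] at h
      exact fun h2 => h (Ideal.mul_mem_left _ _ h2)
    obtain ⟨A, hA, hA1⟩ := exists_matrix_of_ne_zero (c • lq) hlp 1
    obtain ⟨σ, hσ, hσ'⟩ := exists_aut 1 K A hA
    have := eq_of_notMem (p ≫ σ.hom) (q ≫ σ.hom) (by rw [Category.assoc, hσ, hp])
      (by rw [Category.assoc, hσ, hq]) (j := 1)
      (fun y h => hp' y (hA1 ▸ (hσ' 1 (p y)).1 h)) (fun y h => hq'' y (hA1 ▸ (hσ' 1 (q y)).1 h))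
    obtain ⟨y, hy⟩ := hpq
    rw [cancel_mono] at this
    exact hy (by rw [this])

/-- A rational point of the line can be moved to the first coordinate point. -/
theorem exists_aut_point (p : Spec (CommRingCat.of K) ⟶ ProjSpace 1 K) (hp : p ≫ ProjSpace.toSpec 1 K = 𝟙 _) :
    ∃ σ : ProjSpace 1 K ≅ ProjSpace 1 K, σ.hom ≫ ProjSpace.toSpec 1 K = ProjSpace.toSpec 1 K ∧
      ∀ y, σ.hom (p y) ∉ Proj.basicOpen (polyGrading 1 K) (X 1) := by
  obtain ⟨lp, hlp, hp'⟩ := exists_vanishing p hp
  obtain ⟨A, hA, hA1⟩ := exists_matrix_of_ne_zero lp hlp 1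
  obtain ⟨σ, hσ, hσ'⟩ := exists_aut 1 K A hA
  exact ⟨σ, hσ, fun y h => hp' y (hA1 ▸ (hσ' 1 (p y)).1 h)⟩

end

end Groth.Agent.H17.GenusZeroSt
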