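import Groth.Agent.H17.GenusZeroSt.Tsen
import Groth.Agent.H29Curve.Morphism
import Groth.Agent.H05EGA4.EtCl.CurvePoints
import Groth.Agent.H12Pic.FinKer.CurveProd
import Groth.Agent.LeadBC.GenBC.AppIso
import Groth.Agent.H06EGA9.StructureStalk
import Groth.Agent.H29DoubleCover.Separable
import Groth.Agent.H14VA.Regular
import Groth.Agent.H28Curve.ProjLine
import Groth.Agent.S1025
import Groth.Agent.S2553

/-!
# Fibrations whose closed fibres are lines
-/

set_option autoImplicit false
set_option linter.style.haveILetI false
set_option backward.isDefEq.respectTransparency false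
set_option backward.isDefEq.respectTransparency.types false
set_option maxHeartbeats 800000

universe u

open CategoryTheory CategoryTheory.Limits AlgebraicGeometry TopologicalSpace

namespace Groth.Agent.H17.GenusZeroSt

noncomputable section

attribute [local instance 10000] H10Coh.hasSheafifyAb H10Coh.hasWeakSheafifyAb H10Coh.hasExtAb H10Coh.enoughInjAb

variable {k : Type u} [Field k] [IsAlgClosed k]

omit [IsAlgClosed k] in
/-- A scheme isomorphic to the line has no first cohomology of the structure sheaf. -/
theorem subsingleton_h1_of_iso_projLine {Z : Scheme.{u}} (φ : Z ≅ CohB1.ProjSpace 1 k) :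
    Subsingleton (Coh.HH Z (Coh.structureModule Z) 1) := by
  letI : Z.Over (Spec (CommRingCat.of k)) := ⟨φ.hom ≫ CohB1.ProjSpace.toSpec 1 k⟩
  letI := H29RR.PnPic.overSpec 1 k
  have hg : Curv2.genus k Z = 0 :=
    (H29DoubleCover.genus_congr (k := k) φ rfl).trans (H29DoubleCover.genus_projLine k)
  haveI : IsProper (CohB1.ProjSpace.toSpec 1 k) := H27Weil.isProper_toSpec 1 k
  haveI : IsProper (Z ↘ Spec (CommRingCat.of k)) :=
    inferInstanceAs (IsProper (φ.hom ≫ CohB1.ProjSpace.toSpec 1 k))
  haveI := H14VA.finite_HH_structure k Z 1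
  exact (Module.finrank_zero_iff (R := k)).1 hg

/-- If the closed fibres of a surface over a curve are lines, the generic fibre is a geometrically integral
curve of genus zero. -/
theorem genericFibre_of_closedFibres {X C : Scheme.{u}} [X.Over (Spec (CommRingCat.of k))]
    [C.Over (Spec (CommRingCat.of k))] [IsIntegral X] [IsIntegral C] [IsProper (X ↘ Spec (CommRingCat.of k))]
    [IsProper (C ↘ Spec (CommRingCat.of k))] (hdimC : topologicalKrullDim C = 1)
    (hnormC : ∀ y : C, IsIntegrallyClosed (C.presheaf.stalk y))
    (π : X ⟶ C) (hπ : π ≫ (C ↘ Spec (CommRingCat.of k)) = X ↘ Spec (CommRingCat.of k))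
    (hsurj : Function.Surjective π)
    (hfib : ∀ y : C, IsClosed ({y} : Set C) → Nonempty (π.fiber y ≅ CohB1.ProjSpace 1 k)) :
    GeometricallyIntegral (π.fiberToSpecResidueField (genericPoint C)) ∧
      (letI : (π.fiber (genericPoint C)).Over (Spec (C.residueField (genericPoint C))) :=
        ⟨π.fiberToSpecResidueField (genericPoint C)⟩
      Curv2.genus (C.residueField (genericPoint C)) (π.fiber (genericPoint C)) = 0) := by
  haveI : IsProper π := by
    haveI : IsProper (π ≫ (C ↘ Spec (CommRingCat.of k))) := by rw [hπ]; infer_instance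
    exact IsProper.of_comp π (C ↘ Spec (CommRingCat.of k))
  haveI : IsLocallyNoetherian C := LocallyOfFiniteType.isLocallyNoetherian (C ↘ Spec (CommRingCat.of k))
  haveI : LocallyOfFinitePresentation π := inferInstance
  have hη : π (genericPoint X) = genericPoint C := by
    obtain ⟨x', hx'⟩ := hsurj (genericPoint C)
    refine Specializes.antisymm ?_ ((genericPoint_spec C).specializes trivial) |>.eq
    exact (((genericPoint_spec X).specializes (trivial : x' ∈ (Set.univ : Set X))).map π.continuous).trans
      (specializes_of_eq hx')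
  haveI : Flat π := H29Curve.flat_of_dominant_normal π hη hnormC hdimC.le
  haveI : CompactSpace C := QuasiCompact.compactSpace_of_compactSpace (C ↘ Spec (CommRingCat.of k))
  obtain ⟨y, -, hy⟩ := IsClosed.exists_closed_singleton (X := C) isClosed_univ Set.univ_nonempty
  have hy' : IsClosed ({y} : Set C) := hy
  obtain ⟨φ⟩ := hfib y hy'
  haveI : IsAlgClosed (C.residueField y) :=
    H05EGA4.EtCl.isAlgClosed_residueField_of_isClosed (C ↘ Spec (CommRingCat.of k)) y hy'
  haveI : IsIntegral (CohB1.ProjSpace 1 k) := (H28Curve.projLine_facts k).1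
  haveI : Nonempty (π.fiber y) := ⟨φ.inv (genericPoint (CohB1.ProjSpace 1 k))⟩
  haveI : IsIntegral (π.fiber y) := isIntegral_of_isOpenImmersion φ.hom
  let q := π.fiberToSpecResidueField y
  haveI : LocallyOfFiniteType q := inferInstanceAs (LocallyOfFiniteType (pullback.snd π _))
  have hgi : GeometricallyIntegral q := H12Pic.FinKer.geometricallyIntegral_of_isAlgClosed (k := C.residueField y) q
  refine ⟨?_, ?_⟩
  · exact ((genericPoint_spec C).mem_open_set_iff (Groth.Agent.S2553.result π)).2 ⟨y, trivial, hgi⟩
  · have hFP : CohB1.IsFP (Coh.structureModule X) := H06EGA9.isFP_structureModule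
    have hflat := Groth.Agent.LeadBC.GenBC.isFlatOver_structure π
    have hopen := Groth.Agent.S1025.result π (Coh.structureModule X) hFP hflat 1 1
    have hy1 : PerfAux.betti π (Coh.structureModule X) y 1 < 1 := by
      obtain ⟨eO⟩ := H11Ample.nonempty_pullback_structureModule_iso (π.fiberι y)
      haveI := subsingleton_h1_of_iso_projLine φ
      letI : (π.fiber y).Over (Spec (CommRingCat.of (C.residueField y))) := ⟨q⟩
      haveI := (H29RR.hhIso (k := C.residueField y) eO 1).toEquiv.subsingleton
      rw [PerfAux.betti, Module.finrank_zero_of_subsingleton]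
      exact one_pos
    have hgen : genericPoint C ∈ {s : C | PerfAux.betti π (Coh.structureModule X) s 1 < 1} :=
      ((genericPoint_spec C).mem_open_set_iff hopen).2 ⟨y, trivial, hy1⟩
    obtain ⟨eO⟩ := H11Ample.nonempty_pullback_structureModule_iso (π.fiberι (genericPoint C))
    letI : (π.fiber (genericPoint C)).Over (Spec (CommRingCat.of (C.residueField (genericPoint C)))) :=
      ⟨π.fiberToSpecResidueField (genericPoint C)⟩
    show Curv2.genus (C.residueField (genericPoint C)) (π.fiber (genericPoint C)) = 0
    rw [Curv2.genus, ← (H29RR.hhIso (k := C.residueField (genericPoint C)) eO 1).finrank_eq]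
    exact Nat.lt_one_iff.1 hgen

end

end Groth.Agent.H17.GenusZeroSt
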