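import Groth.Agent.H17.GenusZeroSt.Conic
import Groth.Agent.H29CurveDual.Canonical
import Groth.Agent.S1636
import Mathlib.LinearAlgebra.QuadraticForm.IsometryEquiv

/-!
# Curves of genus zero are conics
-/

set_option autoImplicit false
set_option linter.style.haveILetI false
set_option backward.isDefEq.respectTransparency false
set_option backward.isDefEq.respectTransparency.types false
set_option maxHeartbeats 800000

universe u

open CategoryTheory CategoryTheory.Limits AlgebraicGeometry TopologicalSpace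
open MvPolynomial LefPen

namespace Groth.Agent.H17.GenusZeroSt

noncomputable section

attribute [local instance 10000] H10Coh.hasSheafifyAb H10Coh.hasWeakSheafifyAb H10Coh.hasExtAb H10Coh.enoughInjAb

variable {k : Type u} [Field k]

/-- A nonzero zero of an equation of the range gives a rational point. -/
theorem exists_section_of_zero {n : ℕ} {X : Scheme.{u}} (f : X ⟶ Spec (CommRingCat.of k))
    (i : X ⟶ CohB1.ProjSpace n k) [IsClosedImmersion i] (hi : i ≫ CohB1.ProjSpace.toSpec n k = f)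
    {d : ℕ} (hd : 0 < d) (G : Form n k d)
    (hrange : Set.range i = {y : CohB1.ProjSpace n k | G.1 ∈ y.asHomogeneousIdeal})
    (w : Fin (n + 1) → k) (hw : w ≠ 0) (h0 : eval w G.1 = 0) :
    ∃ σ : Spec (CommRingCat.of k) ⟶ X, σ ≫ f = 𝟙 _ := by
  obtain ⟨s, hs, hs'⟩ := exists_point_of_zero hd G w hw h0
  obtain ⟨σ, hσ⟩ := exists_lift_point i s fun y => hrange.ge (hs' y)
  exact ⟨σ, by rw [← hi, ← Category.assoc, hσ, hs]⟩

/-- An integral smooth proper curve of genus zero embeds in the plane with range the zero set of a quadratic form. -/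
theorem exists_plane_of_integral {X : Scheme.{u}} (f : X ⟶ Spec (CommRingCat.of k)) [Smooth f] [IsProper f]
    [GeometricallyConnected f] [IsIntegral X] (hdim : topologicalKrullDim X = 1)
    (hgen : letI : X.Over (Spec (CommRingCat.of k)) := ⟨f⟩; Curv2.genus k X = 0) :
    ∃ (i : X ⟶ CohB1.ProjSpace 2 k) (G : Form 2 k 2), IsReduced X ∧ IsClosedImmersion i ∧
      i ≫ CohB1.ProjSpace.toSpec 2 k = f ∧
      Set.range i = {y : CohB1.ProjSpace 2 k | G.1 ∈ y.asHomogeneousIdeal} := by
  letI : X.Over (Spec (CommRingCat.of k)) := ⟨f⟩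
  haveI : IsProper (X ↘ Spec (CommRingCat.of k)) := ‹IsProper f›
  haveI : Smooth (X ↘ Spec (CommRingCat.of k)) := ‹Smooth f›
  have h0 : Module.finrank k (Coh.HH X (Coh.structureModule X) 0) = 1 := H29DoubleCover.finrank_h0_structure f
  have hΩ := H29CurveDual.isInvertible_omega_curve (k := k) (X := X) hdim
  have hdeg := H29CurveDual.deg_omega_of_h0 (k := k) (X := X) hdim h0
  obtain ⟨N, hN, ⟨e⟩⟩ := H29RR.exists_inverse_comm hΩ
  have hadd := H29RR.deg_tensor (k := k) hdim.le hΩ hN
  rw [H29RR.deg_congr (k := k) e, H29RR.deg_structureModule, hdeg, hgen] at hadd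
  obtain ⟨i, hicl, hif, -⟩ := Groth.Agent.S1636.result k X hdim h0 hgen N hN 2 two_pos (by push_cast at hadd ⊢; omega)
  haveI := hicl
  obtain ⟨d, F, hd1, hirr, -, hrange, hker⟩ := exists_form i hdim
  haveI : IsProper (CohB1.ProjSpace.toSpec 2 k) := H27Weil.isProper_toSpec 2 k
  -- comparison with the subscheme
  have hk : (hypIdeal F).subschemeι.ker = i.ker := by rw [Scheme.IdealSheafData.ker_subschemeι, hker]
  let a := IsClosedImmersion.lift (hypIdeal F).subschemeι i hk.le
  let a' := IsClosedImmersion.lift i (hypIdeal F).subschemeι hk.ge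
  have ha : a ≫ (hypIdeal F).subschemeι = i := IsClosedImmersion.lift_fac _ _ _
  have ha' : a' ≫ i = (hypIdeal F).subschemeι := IsClosedImmersion.lift_fac _ _ _
  haveI : IsIso a := ⟨a', by rw [← cancel_mono i, Category.assoc, ha', ha, Category.id_comp],
    by rw [← cancel_mono (hypIdeal F).subschemeι, Category.assoc, ha, ha', Category.id_comp]⟩
  let p := (hypIdeal F).subschemeι ≫ CohB1.ProjSpace.toSpec 2 k
  have hsq : IsPullback a f p (Spec.map (CommRingCat.ofHom (algebraMap k k))) := by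
    rw [show CommRingCat.ofHom (algebraMap k k) = 𝟙 (CommRingCat.of k) from rfl, Spec.map_id]
    exact IsPullback.of_horiz_isIso ⟨by rw [Category.comp_id, ← Category.assoc, ha]; exact hif⟩
  haveI : IsProper p := inferInstance
  have hd2 : d ≤ 2 := by
    by_contra hd3
    have hg2 := (H29DoubleCover.genus_bc p f a hsq).symm.trans hgen
    letI : (hypIdeal F).subscheme.Over (Spec (CommRingCat.of k)) := ⟨p⟩
    have h := (H14Plane.plane_curve k d hd1 F hirr.ne_zero rfl).2.2
    replace h := h.symm.trans hg2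
    have h2 : 2 * 1 ≤ (d - 1) * (d - 2) := Nat.mul_le_mul (by omega) (by omega)
    omega
  obtain rfl | rfl : d = 1 ∨ d = 2 := by omega
  · refine ⟨i, ⟨F.1 * F.1, SetLike.mul_mem_graded F.2 F.2⟩, inferInstance, hicl, hif, hrange.trans ?_⟩
    ext y
    exact ⟨fun h => y.asHomogeneousIdeal.toIdeal.mul_mem_left _ h, fun h => (y.isPrime.mem_or_mem h).elim id id⟩
  · exact ⟨i, F, inferInstance, hicl, hif, hrange⟩

/-- A curve of genus zero embeds in the plane with range the zero set of a form of degree two. -/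
theorem exists_plane {X : Scheme.{u}} (f : X ⟶ Spec (CommRingCat.of k)) (hf : ModFun.IsCurveOfGenus 0 f) :
    ∃ (i : X ⟶ CohB1.ProjSpace 2 k) (G : Form 2 k 2), IsReduced X ∧ IsClosedImmersion i ∧
      i ≫ CohB1.ProjSpace.toSpec 2 k = f ∧
      Set.range i = {y : CohB1.ProjSpace 2 k | G.1 ∈ y.asHomogeneousIdeal} := by
  obtain ⟨hs, hp, hi, hfib⟩ := hf
  haveI := hs
  haveI := hp
  haveI := hi
  haveI : IrreducibleSpace X :=
    GeometricallyIrreducible.geometrically_irreducibleSpace (f := f) (𝟙 _) (𝟙 X) f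
      (IsPullback.of_horiz_isIso ⟨by simp⟩)
  haveI := H29GenusZero.geometricallyConnected_of_irreducible f
  letI : X.Over (Spec (CommRingCat.of k)) := ⟨f⟩
  haveI : IsProper (X ↘ Spec (CommRingCat.of k)) := hp
  haveI : Smooth (X ↘ Spec (CommRingCat.of k)) := hs
  haveI : IsIntegral X := H29DoubleCover.isIntegral_of_smooth_connected f
  let Ω := AlgebraicClosure k
  let b := Spec.map (CommRingCat.ofHom (algebraMap k Ω))
  obtain ⟨hd, hg⟩ := hfib Ω b (pullback f b) (pullback.fst f b) (pullback.snd f b) (IsPullback.of_hasPullback f b)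
  have hdim : topologicalKrullDim X = 1 := (Groth.Agent.S4642.result (K := Ω) f).symm.trans hd
  have hgen : Curv2.genus k X = 0 :=
    (H29DoubleCover.genus_bc f (pullback.snd f b) (pullback.fst f b) (IsPullback.of_hasPullback f b)).symm.trans hg
  exact exists_plane_of_integral f hdim hgen

/-- A form of degree two gives a quadratic form. -/
theorem exists_quadraticForm {n : ℕ} (G : Form n k 2) :
    ∃ Q : QuadraticForm k (Fin (n + 1) → k), ∀ w, Q w = eval w G.1 := by
  have hlin : ∀ p ∈ homogeneousSubmodule (Fin (n + 1)) k 1,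
      ∃ φ : (Fin (n + 1) → k) →ₗ[k] k, ∀ w, φ w = eval w p := by
    intro p hp
    rw [homogeneousSubmodule_one_eq_span_X] at hp
    induction hp using Submodule.span_induction with
    | mem x hx => obtain ⟨i, rfl⟩ := hx; exact ⟨LinearMap.proj i, fun w => by simp⟩
    | zero => exact ⟨0, fun w => by simp⟩
    | add x y _ _ hx hy =>
      obtain ⟨φ, hφ⟩ := hx
      obtain ⟨ψ, hψ⟩ := hy
      exact ⟨φ + ψ, fun w => by simp [hφ, hψ]⟩
    | smul a x _ hx =>
      obtain ⟨φ, hφ⟩ := hx
      exact ⟨a • φ, fun w => by simp [hφ, smul_eval]⟩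
  have hG : G.1 ∈ (homogeneousSubmodule (Fin (n + 1)) k 1) * homogeneousSubmodule (Fin (n + 1)) k 1 := by
    rw [← pow_two, homogeneousSubmodule_one_pow]
    exact G.2
  refine Submodule.mul_induction_on (C := fun p => ∃ Q : QuadraticForm k (Fin (n + 1) → k), ∀ w, Q w = eval w p)
    hG (fun p hp q hq => ?_) (fun p q hp hq => ?_)
  · obtain ⟨φ, hφ⟩ := hlin p hp
    obtain ⟨ψ, hψ⟩ := hlin q hq
    exact ⟨QuadraticMap.linMulLin φ ψ, fun w => by simp [hφ, hψ]⟩
  · obtain ⟨Q, hQ⟩ := hp
    obtain ⟨Q', hQ'⟩ := hq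
    exact ⟨Q + Q', fun w => by simp [hQ, hQ']⟩

/-- Evaluation after a linear substitution. -/
theorem eval_subst {n : ℕ} (A : Matrix (Fin (n + 1)) (Fin (n + 1)) k) (c : Fin (n + 1) → k)
    (p : MvPolynomial (Fin (n + 1)) k) : eval c (subst n k A p) = eval (A.mulVec c) p := by
  induction p using MvPolynomial.induction_on with
  | C r => simp [subst_apply]
  | add p q hp hq => simp [hp, hq]
  | mul_X p i hp =>
    rw [map_mul, map_mul, map_mul, hp, eval_X]
    congr 1
    simp [subst_apply, lform, Matrix.mulVec, dotProduct]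

/-- A curve of genus zero has a rational point or is a diagonal conic. -/
theorem exists_point_or_conic [CharZero k] {X : Scheme.{u}} (f : X ⟶ Spec (CommRingCat.of k))
    (hf : ModFun.IsCurveOfGenus 0 f) :
    (∃ σ : Spec (CommRingCat.of k) ⟶ X, σ ≫ f = 𝟙 _) ∨
      ∃ (a b : k) (i : X ⟶ CohB1.ProjSpace 2 k), a ≠ 0 ∧ b ≠ 0 ∧ IsReduced X ∧ IsClosedImmersion i ∧
        i ≫ CohB1.ProjSpace.toSpec 2 k = f ∧
        Set.range i = {y : CohB1.ProjSpace 2 k | (conicForm k ![1, a, b]).1 ∈ y.asHomogeneousIdeal} := by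
  classical
  obtain ⟨i, G, hred, hicl, hif, hrange⟩ := exists_plane f hf
  haveI := hicl
  by_cases hz : ∃ w : Fin (2 + 1) → k, w ≠ 0 ∧ eval w G.1 = 0
  · obtain ⟨w, hw, h0⟩ := hz
    exact Or.inl (exists_section_of_zero f i hif two_pos G hrange w hw h0)
  refine Or.inr ?_
  push Not at hz
  obtain ⟨Q, hQ⟩ := exists_quadraticForm G
  haveI : Invertible (2 : k) := invertibleOfNonzero two_ne_zero
  obtain ⟨w₀, ⟨e₀⟩⟩ := Q.equivalent_weightedSumSquares
  have hn : Module.finrank k (Fin (2 + 1) → k) = 2 + 1 := Module.finrank_fin_fun k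
  let π : Fin (2 + 1) ≃ Fin (Module.finrank k (Fin (2 + 1) → k)) := finCongr hn.symm
  let w : Fin (2 + 1) → k := w₀ ∘ π
  let e : (Fin (2 + 1) → k) ≃ₗ[k] (Fin (2 + 1) → k) :=
    e₀.toLinearEquiv.trans (LinearEquiv.funCongrLeft k k π)
  let A : Matrix (Fin (2 + 1)) (Fin (2 + 1)) k := LinearMap.toMatrix' e.symm.toLinearMap
  have hA : IsUnit A := IsUnit.of_mul_eq_one (LinearMap.toMatrix' e.toLinearMap) (by
    rw [← LinearMap.toMatrix'_comp]
    simp)
  have hQe : ∀ c, Q (e.symm c) = ∑ l, w l * (c l * c l) := by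
    intro c
    have h := e₀.map_app (e.symm c)
    rw [QuadraticMap.weightedSumSquares_apply] at h
    rw [← h]
    refine (Fintype.sum_equiv π _ _ fun l => ?_).symm
    have hl : e₀ (e.symm c) (π l) = c l := by
      have := congrFun (e.apply_symm_apply c) l
      exact this
    simp [w, hl]
  have hw : ∀ l, w l ≠ 0 := fun l h => by
    refine hz (e.symm (Pi.single l 1)) (fun hc => ?_) ?_
    · have h2 := congrFun (congrArg e hc) l
      simp at h2
    · rw [← hQ, hQe, Finset.sum_eq_single l (fun m _ hm => by simp [hm]) (by simp), h, zero_mul]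
  have hsub : subst 2 k A G.1 = (conicForm k w).1 := MvPolynomial.funext fun c => by
    rw [eval_subst, show A.mulVec c = e.symm c from LinearMap.toMatrix'_mulVec _ c, ← hQ, hQe]
    simp [conicForm, pow_two]
  obtain ⟨σ, hσ, hσ'⟩ := exists_aut_subst 2 k A hA
  refine ⟨w 1 / w 0, w 2 / w 0, i ≫ σ.inv, div_ne_zero (hw 1) (hw 0), div_ne_zero (hw 2) (hw 0), hred,
    inferInstance, by rw [Category.assoc, (Iso.inv_comp_eq σ).2 hσ.symm, hif], ?_⟩
  have hscale : (conicForm k w).1 = C (w 0) * (conicForm k ![1, w 1 / w 0, w 2 / w 0]).1 := by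
    simp only [conicForm, Finset.mul_sum]
    refine Finset.sum_congr rfl fun l _ => ?_
    rw [← mul_assoc, ← map_mul]
    fin_cases l <;> simp [mul_div_cancel₀, hw 0]
  ext y
  have h1 : y ∈ Set.range (i ≫ σ.inv) ↔ σ.hom y ∈ Set.range i := by
    refine ⟨?_, fun ⟨x, hx⟩ => ⟨x, ?_⟩⟩
    · rintro ⟨x, rfl⟩
      exact ⟨x, by rw [← Scheme.Hom.comp_apply, Category.assoc, Iso.inv_hom_id, Category.comp_id]⟩
    · rw [Scheme.Hom.comp_apply, hx, ← Scheme.Hom.comp_apply, Iso.hom_inv_id]; rfl
  rw [h1, hrange]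
  show G.1 ∈ (σ.hom y).asHomogeneousIdeal ↔ _
  refine (not_iff_not.1 (hσ' G.1 y)).trans ?_
  rw [hsub, hscale]
  exact y.asHomogeneousIdeal.toIdeal.unit_mul_mem_iff_mem ((isUnit_iff_ne_zero.2 (hw 0)).map C)

end

end Groth.Agent.H17.GenusZeroSt
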