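import Groth.Prelude.Def_StCurv
import Groth.Agent.H17.GenusZeroSt.Pts
import Groth.Agent.H29GenusZero.Basic
import Groth.Agent.H29DoubleCover.Unique
import Groth.Agent.H29DoubleCover.Separable
import Groth.Agent.H28Curve.ProjLine
import Groth.Agent.H26Smooth.ProjSmooth
import Groth.Agent.H19Grp.RegularSmooth
import Groth.Agent.S4642
import Groth.Agent.H17.QuotRel.FiniteUnion

/-!
# The standard pointed genus zero curves
-/

set_option autoImplicit false
set_option linter.style.haveILetI false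
set_option backward.isDefEq.respectTransparency false
set_option backward.isDefEq.respectTransparency.types false

universe u

open CategoryTheory CategoryTheory.Limits AlgebraicGeometry
open MvPolynomial CohB1

namespace Groth.Agent.H17.GenusZeroSt

noncomputable section

variable (k : Type u) [Field k]

/-- A fibre of the line over a point with values in a field is the line. -/
theorem exists_fibre_iso {K : Type u} [Field K] (b : Spec (CommRingCat.of K) ⟶ Spec (CommRingCat.of k))
    {Y : Scheme.{u}} (i : Y ⟶ ProjSpace 1 k) (q : Y ⟶ Spec (CommRingCat.of K))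
    (hsq : IsPullback i q (ProjSpace.toSpec 1 k) b) :
    ∃ e : Y ≅ ProjSpace 1 K, e.hom ≫ ProjSpace.toSpec 1 K = q := by
  letI : Algebra k K := (Spec.preimage b).hom.toAlgebra
  have hb : Spec.map (CommRingCat.ofHom (algebraMap k K)) = b := Spec.map_preimage b
  have h := H22Alg.PnBC.isPullback_projSpace 1 k K
  rw [hb] at h
  exact ⟨hsq.isoIsPullback _ _ h, hsq.isoIsPullback_hom_snd _ _ h⟩

theorem isCurveOfGenus_projLine : ModFun.IsCurveOfGenus 0 (ProjSpace.toSpec 1 k) := by
  refine ⟨H26Smooth.smooth_toSpec 1 k, H27Weil.isProper_toSpec 1 k, ⟨?_⟩, ?_⟩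
  · intro K _ b Y g h hsq
    obtain ⟨e, -⟩ := exists_fibre_iso k b g h hsq
    obtain ⟨hint, -, -⟩ := H28Curve.projLine_facts K
    exact (e.inv.homeomorph).surjective.irreducibleSpace e.inv.continuous
  · intro Ω _ _ t X i q hsq
    obtain ⟨e, he⟩ := exists_fibre_iso k t i q hsq
    obtain ⟨-, -, hd⟩ := H28Curve.projLine_facts Ω
    refine ⟨(IsHomeomorph.topologicalKrullDim_eq e.hom e.hom.homeomorph.isHomeomorph).trans (by exact_mod_cast hd), ?_⟩
    haveI : IsProper (ProjSpace.toSpec 1 Ω) := H27Weil.isProper_toSpec 1 Ω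
    have hsq' : IsPullback e.hom q (ProjSpace.toSpec 1 Ω) (Spec.map (CommRingCat.ofHom (algebraMap Ω Ω))) := by
      rw [show CommRingCat.ofHom (algebraMap Ω Ω) = 𝟙 (CommRingCat.of Ω) from rfl, Spec.map_id]
      exact IsPullback.of_horiz_isIso ⟨by rw [Category.comp_id, he]⟩
    exact (H29DoubleCover.genus_bc (ProjSpace.toSpec 1 Ω) q e.hom hsq').trans (H29DoubleCover.genus_projLine Ω)

variable {k}

/-- A genus zero curve with a rational point is the line. -/
theorem exists_iso_of_point {X : Scheme.{u}} (f : X ⟶ Spec (CommRingCat.of k)) (hf : ModFun.IsCurveOfGenus 0 f)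
    (σ : Spec (CommRingCat.of k) ⟶ X) (hσ : σ ≫ f = 𝟙 _) :
    ∃ e : X ≅ ProjSpace 1 k, e.hom ≫ ProjSpace.toSpec 1 k = f := by
  obtain ⟨hs, hp, hi, hfib⟩ := hf
  haveI := hs
  haveI := hp
  haveI := hi
  haveI : IrreducibleSpace X :=
    GeometricallyIrreducible.geometrically_irreducibleSpace (f := f) (𝟙 _) (𝟙 X) f
      (IsPullback.of_horiz_isIso ⟨by simp⟩)
  haveI := H29GenusZero.geometricallyConnected_of_irreducible f
  letI : X.Over (Spec (CommRingCat.of k)) := ⟨f⟩
  haveI : IsProper (X ↘ Spec (CommRingCat.of k)) := hp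
  haveI : IsIntegral X := H29DoubleCover.isIntegral_of_smooth_connected f
  let Ω := AlgebraicClosure k
  let b := Spec.map (CommRingCat.ofHom (algebraMap k Ω))
  obtain ⟨hd, hg⟩ := hfib Ω b (pullback f b) (pullback.fst f b) (pullback.snd f b) (IsPullback.of_hasPullback f b)
  have hdim : topologicalKrullDim X = 1 := (Groth.Agent.S4642.result (K := Ω) f).symm.trans hd
  have hgen : Curv2.genus k X = 0 :=
    (H29DoubleCover.genus_bc f (pullback.snd f b) (pullback.fst f b) (IsPullback.of_hasPullback f b)).symm.trans hg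
  exact H29GenusZero.exists_iso_of_section hdim hgen σ hσ
    fun p => H19Grp.isRegularLocalRing_stalk_of_smooth f _

theorem exists_stdPt (j : Fin (1 + 1)) :
    ∃ s : Spec (CommRingCat.of k) ⟶ ProjSpace 1 k, s ≫ ProjSpace.toSpec 1 k = 𝟙 _ ∧
      ∀ y, s y ∉ Proj.basicOpen (polyGrading 1 k) (X j) := by
  obtain ⟨i, hi⟩ := exists_ne j
  obtain ⟨s, hs, hs'⟩ := QuotRel.exists_coord_section 1 k i j hi.symm
  exact ⟨s, hs, fun y => (hs' y).2⟩

variable (k) in
/-- The rational point of the line outside the open of a coordinate. -/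
def stdPt (j : Fin (1 + 1)) : Spec (CommRingCat.of k) ⟶ ProjSpace 1 k := (exists_stdPt (k := k) j).choose

theorem stdPt_toSpec (j : Fin (1 + 1)) : stdPt k j ≫ ProjSpace.toSpec 1 k = 𝟙 _ :=
  (exists_stdPt (k := k) j).choose_spec.1

theorem stdPt_notMem (j : Fin (1 + 1)) (y) : stdPt k j y ∉ Proj.basicOpen (polyGrading 1 k) (X j) :=
  (exists_stdPt (k := k) j).choose_spec.2 y

theorem stdPt_ne {i j : Fin (1 + 1)} (h : i ≠ j) (y) : stdPt k i y ≠ stdPt k j y := by
  intro he
  obtain ⟨m, hm⟩ := TopologicalSpace.Opens.mem_iSup.1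
    ((H11Proj.ProjSpace.iSup_basicOpen 1 k).ge (Set.mem_univ (stdPt k i y)) :
      stdPt k i y ∈ ⨆ m : Fin (1 + 1), Proj.basicOpen (polyGrading 1 k) (X m))
  by_cases hmi : m = i
  · exact stdPt_notMem i y (hmi ▸ hm)
  · rw [fin_two_eq hmi h.symm, he] at hm
    exact stdPt_notMem j y hm

end

end Groth.Agent.H17.GenusZeroSt
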