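import Groth.Agent.H17.GenusZeroSt.Plane
import Groth.Agent.H17.GenusZeroSt.Std
import Groth.Agent.H25Quad.Smooth
import Groth.Agent.H10Coh.CI.Connected
import Groth.Agent.H10Coh.CI.Dim
import Groth.Agent.H10Coh.CI.Regular
import Groth.Agent.H14Plane.Genus
import Groth.Agent.H29DoubleCover.Connected
import Groth.Agent.H06EGA9.ProductDim
import Groth.Prelude.Def_ModFun

/-!
# Diagonal conics
-/

set_option autoImplicit false
set_option linter.style.haveILetI false
set_option backward.isDefEq.respectTransparency false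
set_option backward.isDefEq.respectTransparency.types false
set_option maxHeartbeats 800000

universe u

open CategoryTheory CategoryTheory.Limits AlgebraicGeometry TopologicalSpace
open MvPolynomial LefPen

namespace Groth.Agent.H17.GenusZeroSt

noncomputable section

variable {k : Type u} [Field k] {m : ℕ}

/-- A form with unit diagonal derivatives on the charts defines a smooth hypersurface. -/
theorem smooth_hyp_of_isUnit {d : ℕ} (G : Form m k d)
    (h : ∀ j, IsUnit (H11Proj.ProjSpace.dehom m k j (pderiv j G.1))) :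
    Smooth ((hypIdeal G).subschemeι ≫ CohB1.ProjSpace.toSpec m k) := by
  classical
  have hcomap : secIdeal (𝟙 (CohB1.ProjSpace m k)) {G} = hypIdeal G := by
    rw [secIdeal, iSup_singleton, Scheme.IdealSheafData.comap_id]
  have hkey : SmoothOfRelativeDimension (m - 1)
      (secToSpec (𝟙 (CohB1.ProjSpace m k)) ({G} : Set (Form m k d))) := by
    refine H25Transversal.smoothOfRelativeDimension_sec _ _ fun x => ?_
    obtain ⟨j, hj⟩ : ∃ j, x ∈ chart m k j := by
      have : x ∈ (⨆ j, chart m k j) := by
        rw [show (⨆ j, chart m k j) = ⊤ from H11Proj.ProjSpace.iSup_basicOpen m k]; trivial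
      exact TopologicalSpace.Opens.mem_iSup.mp this
    refine ⟨H25Transversal.chartU m k j, hj, ?_⟩
    let σ := {l : Fin (m + 1) // l ≠ j}
    haveI : IsIso (Proj.awayToSection (CohB1.polyGrading m k) (MvPolynomial.X j)) :=
      inferInstanceAs (IsIso (Proj.basicOpenIsoAway _ _ (X_mem m k j) one_pos).hom)
    let e : MvPolynomial σ k ≃+*
        Γ(CohB1.ProjSpace m k, (H25Transversal.chartU m k j).1) :=
      (RingEquiv.ofBijective _ (H11Proj.ProjSpace.chartMap_bijective m k j)).trans
        (asIso (Proj.awayToSection (CohB1.polyGrading m k) (MvPolynomial.X j))).commRingCatIsoToRingEquiv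
    have he : ∀ F, H25Transversal.polyToSection m k j F = e (H11Proj.ProjSpace.dehom m k j F) :=
      fun F => congrArg (Proj.awayToSection (CohB1.polyGrading m k) (MvPolynomial.X j)).hom
        (RingHom.congr_fun (H11Proj.ProjSpace.chartMap_comp_dehom m k j) F).symm
    have hC : ∀ c, ((Scheme.ΓSpecIso (CommRingCat.of k)).inv ≫
        (𝟙 _ ≫ CohB1.ProjSpace.toSpec m k).appLE ⊤ (chart m k j) (fun _ _ => trivial)).hom c =
          e (C c) := by
      have h1 : Spec.map ((Scheme.ΓSpecIso (CommRingCat.of k)).inv ≫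
          (𝟙 _ ≫ CohB1.ProjSpace.toSpec m k).appLE ⊤ (chart m k j) (fun _ _ => trivial)) =
          Spec.map (CommRingCat.ofHom ((H25Transversal.polyToSection m k j).comp MvPolynomial.C)) := by
        rw [← H25Transversal.fromSpec_toSpec]
        have e2 := IsAffineOpen.SpecMap_appLE_fromSpec (𝟙 _ ≫ CohB1.ProjSpace.toSpec m k)
          (isAffineOpen_top (Spec (CommRingCat.of k))) (H25Transversal.chartU m k j).2
          (fun _ _ => trivial)
        rw [IsAffineOpen.fromSpec_top, Scheme.isoSpec_Spec_inv, ← Spec.map_comp, Category.id_comp]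
          at e2
        rw [Category.id_comp]
        exact e2
      intro c
      refine (RingHom.congr_fun (congrArg CommRingCat.Hom.hom (Spec.map_injective h1)) c).trans ?_
      refine (he (C c)).trans ?_
      simp [H11Proj.ProjSpace.dehom]
      try rfl
    let g := H11Proj.ProjSpace.dehom m k j G.1
    let b := (KaehlerDifferential.mvPolynomialBasis k σ).reindex (finSuccAboveEquiv j).symm
    have hb : ∀ i, b i = KaehlerDifferential.D k _ (X ((finSuccAboveEquiv j) i)) := fun i => by
      simp [b, Module.Basis.reindex_apply, KaehlerDifferential.mvPolynomialBasis_apply]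
      rfl
    have hu : Ideal.span ({g} ∪ Set.range fun i =>
        b.repr (KaehlerDifferential.D k (MvPolynomial σ k) g) i) = ⊤ := by
      set I := Ideal.span ({g} ∪ Set.range fun i =>
        b.repr (KaehlerDifferential.D k (MvPolynomial σ k) g) i)
      have hoff : ∀ l : σ, H11Proj.ProjSpace.dehom m k j (pderiv l.1 G.1) ∈ I := fun l => by
        rw [← H25Quad.pderiv_dehom]
        refine Ideal.subset_span (Or.inr ⟨(finSuccAboveEquiv j).symm l, ?_⟩)
        simp [b, g, KaehlerDifferential.mvPolynomialBasis_repr_apply]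
        erw [Equiv.apply_symm_apply]
      refine Ideal.eq_top_of_isUnit_mem I ?_ (h j)
      have heul := congrArg (H11Proj.ProjSpace.dehom m k j)
        (((mem_homogeneousSubmodule d _).1 G.2).sum_X_mul_pderiv)
      rw [map_sum, map_nsmul, Fintype.sum_eq_add_sum_compl j] at heul
      have h1 : H11Proj.ProjSpace.dehom m k j (X j * pderiv j G.1) =
          H11Proj.ProjSpace.dehom m k j (pderiv j G.1) := by
        rw [map_mul, show H11Proj.ProjSpace.dehom m k j (X j) = 1 by simp [H11Proj.ProjSpace.dehom], one_mul]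
      rw [h1] at heul
      have h2 : H11Proj.ProjSpace.dehom m k j (pderiv j G.1) = d • g -
          ∑ i ∈ ({j}ᶜ : Finset (Fin (m + 1))), H11Proj.ProjSpace.dehom m k j (X i * pderiv i G.1) := eq_sub_of_add_eq heul
      rw [h2]
      refine I.sub_mem (nsmul_mem (show g ∈ I from Ideal.subset_span (Or.inl rfl)) d) (I.sum_mem fun i hi => ?_)
      rw [map_mul]
      exact I.mul_mem_left _ (hoff ⟨i, by simpa using hi⟩)
    have hloc := H25Transversal.locally_standardSmooth b _ hb g hu
    have hP : RingHom.RespectsIso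
        (RingHom.Locally (RingHom.IsStandardSmoothOfRelativeDimension.{u, u} (m - 1))) :=
      RingHom.locally_respectsIso RingHom.isStandardSmoothOfRelativeDimension_respectsIso
    have hI' : (secIdeal (𝟙 (CohB1.ProjSpace m k)) {G}).ideal (H25Transversal.chartU m k j) =
        (Ideal.span {g}).map (e : MvPolynomial σ k →+* _) := by
      rw [hcomap, H25Transversal.hypIdeal_ideal_chart, Ideal.map_span, Set.image_singleton,
        ← H25Transversal.polyToSection_form]
      exact congrArg (fun z => Ideal.span {z}) (he G.1)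
    have h3 := hP.1 _ (Ideal.quotientEquiv (Ideal.span {g}) _ e hI') hloc
    convert h3 using 1
    refine RingHom.ext fun c => ?_
    change Ideal.Quotient.mk _ _ = Ideal.quotientEquiv _ _ e hI' (Ideal.Quotient.mk _ (C c))
    rw [Ideal.quotientEquiv_mk]
    exact congrArg _ (hC c)
  have hs := SmoothOfRelativeDimension.smooth (m - 1)
    (secToSpec (𝟙 (CohB1.ProjSpace m k)) ({G} : Set (Form m k d)))
  change Smooth ((secIdeal (𝟙 (CohB1.ProjSpace m k)) {G}).subschemeι ≫ 𝟙 _ ≫ _) at hs
  rwa [Category.id_comp, hcomap] at hs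

variable (k) in
/-- The diagonal conic. -/
def conicForm (c : Fin (2 + 1) → k) : Form 2 k 2 :=
  ⟨∑ i, C (c i) * X i ^ 2, Submodule.sum_mem _ fun i _ =>
    (mem_homogeneousSubmodule 2 _).2 ((isHomogeneous_X_pow i 2).C_mul _)⟩

theorem conicForm_ne_zero {c : Fin (2 + 1) → k} (hc : c 0 ≠ 0) : (conicForm k c).1 ≠ 0 := fun h => by
  have := congrArg (eval (fun i : Fin (2 + 1) => if i = 0 then (1 : k) else 0)) h
  simp [conicForm, Finset.sum_ite_eq', ite_pow] at this
  exact hc this

theorem map_conicForm {L : Type u} [Field L] (φ : k →+* L) (c : Fin (2 + 1) → k) :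
    MvPolynomial.map φ (conicForm k c).1 = (conicForm L (φ ∘ c)).1 := by
  simp [conicForm, map_sum]

/-- Facts about a nondegenerate diagonal conic. -/
theorem conic_facts [CharZero k] {c : Fin (2 + 1) → k} (hc : ∀ i, c i ≠ 0) :
    GeometricallyIntegral ((hypIdeal (conicForm k c)).subschemeι ≫ CohB1.ProjSpace.toSpec 2 k) ∧
    IsReduced (hypIdeal (conicForm k c)).subscheme ∧
    ModFun.IsCurveOfGenus 0 ((hypIdeal (conicForm k c)).subschemeι ≫ CohB1.ProjSpace.toSpec 2 k) := by
  classical
  set G := conicForm k c with hG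
  have hG0 : G.1 ≠ 0 := conicForm_ne_zero (hc 0)
  let p := (hypIdeal G).subschemeι ≫ CohB1.ProjSpace.toSpec 2 k
  haveI hsm : Smooth p := smooth_hyp_of_isUnit G fun j => by
    have : pderiv j G.1 = C (2 * c j) * X j := by
      simp only [hG, conicForm, map_sum, pderiv_C_mul, pderiv_pow]
      rw [Finset.sum_eq_single j (fun i _ hi => by simp [pderiv_X_of_ne hi]) (by simp)]
      simp only [pderiv_X_self, map_mul, map_ofNat, Nat.cast_ofNat, pow_one, mul_one, Nat.add_one_sub_one]
      ring
    rw [this, map_mul]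
    simp only [H11Proj.ProjSpace.dehom, eval₂Hom_C, eval₂Hom_X', dif_pos, mul_one]
    exact (isUnit_iff_ne_zero.2 (mul_ne_zero two_ne_zero (hc j))).map C
  let Gs : ∀ _ : Fin 1, Form 2 k 2 := fun _ => G
  have hci : ciIdeal Gs = hypIdeal G := by
    unfold ciIdeal
    exact le_antisymm (iSup_le fun _ => le_rfl) (le_iSup (fun _ : Fin 1 => hypIdeal G) 0)
  have hdimLE : H10Coh.CI.DimLE Gs := fun x hx => by
    obtain ⟨y, hy, hyq⟩ := H22Alg.ProjDim.exists_bot_point k 2
    have hlt : y < x := by
      show y.asHomogeneousIdeal.toIdeal < x.asHomogeneousIdeal.toIdeal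
      rw [hy]
      refine bot_lt_iff_ne_bot.2 fun h => hG0 ?_
      have hG : G.1 ∈ x.asHomogeneousIdeal.toIdeal := hx 0
      rw [h] at hG
      exact (Submodule.mem_bot _).1 hG
    have h1 := H22Alg.ProjDim.qdim_lt k 2 hlt
    rw [hyq] at h1
    omega
  have hconn := H10Coh.CI.geometricallyConnected_ci (G := Gs) (by norm_num) (fun _ => by norm_num) hdimLE (by norm_num)
  have hdimle := H10Coh.CI.dim_subscheme_le hdimLE
  rw [hci] at hconn hdimle
  haveI : GeometricallyConnected p := hconn
  haveI hgi : GeometricallyIntegral p := H29DoubleCover.geometricallyIntegral_of_smooth_connected p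
  haveI : IsIntegral (hypIdeal G).subscheme := H29DoubleCover.isIntegral_of_smooth_connected p
  haveI : IsProper (CohB1.ProjSpace.toSpec 2 k) := H27Weil.isProper_toSpec 2 k
  haveI hp : IsProper p := inferInstance
  have hdim : topologicalKrullDim (hypIdeal G).subscheme = 1 := by
    refine le_antisymm (by exact_mod_cast hdimle) ?_
    obtain ⟨y, hy, hyq⟩ := H10Coh.CI.exists_mem_zero (n := 2) (r := 1) (by norm_num) (fun _ => by norm_num) Gs
    let A : Set (CohB1.ProjSpace 2 k) := Set.range (hypIdeal G).subschemeι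
    have hyA : y ∈ A := by
      show y ∈ Set.range _
      rw [range_hypersurface]
      exact hy 0
    have h := H22Alg.ProjDim.le_dim k 2 (A := A) (hypIdeal G).subschemeι.isClosedEmbedding.isClosed_range hyA
      (d := 1) (by omega)
    exact_mod_cast h.trans (IsHomeomorph.topologicalKrullDim_eq _
      (hypIdeal G).subschemeι.isClosedEmbedding.isEmbedding.toHomeomorph.isHomeomorph).ge
  have hgen : @Curv2.genus k _ (hypIdeal G).subscheme ⟨p⟩ = 0 := by
    letI : (hypIdeal G).subscheme.Over (Spec (CommRingCat.of k)) := ⟨p⟩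
    exact (H14Plane.plane_curve k 2 (by norm_num) G hG0 rfl).2.2
  refine ⟨hgi, inferInstance, hsm, hp, inferInstance, fun Ω _ _ t Y i q hsq => ?_⟩
  letI : Algebra k Ω := (Spec.preimage t).hom.toAlgebra
  have ht : Spec.map (CommRingCat.ofHom (algebraMap k Ω)) = t := Spec.map_preimage t
  rw [← ht] at hsq
  exact ⟨(H8Props.FieldDim.dim_baseChange (k := k) (K := Ω) p i q hsq).trans hdim,
    (H29DoubleCover.genus_bc p q i hsq).trans hgen⟩

/-- A curve in the plane with the zero set of a conic is a base change of that conic. -/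
theorem exists_isPullback_conic [CharZero k] {L : Type u} [Field L] [Algebra k L]
    {c : Fin (2 + 1) → k} (hc : ∀ i, c i ≠ 0) {X : Scheme.{u}} [IsReduced X] (f : X ⟶ Spec (CommRingCat.of L))
    (i : X ⟶ CohB1.ProjSpace 2 L) [IsClosedImmersion i] (hi : i ≫ CohB1.ProjSpace.toSpec 2 L = f)
    (hrange : Set.range i =
      {y : CohB1.ProjSpace 2 L | (conicForm L (algebraMap k L ∘ c)).1 ∈ y.asHomogeneousIdeal}) :
    ∃ top : X ⟶ (hypIdeal (conicForm k c)).subscheme, IsPullback top f
      ((hypIdeal (conicForm k c)).subschemeι ≫ CohB1.ProjSpace.toSpec 2 k)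
      (Spec.map (CommRingCat.ofHom (algebraMap k L))) := by
  obtain ⟨hgi, -, -⟩ := conic_facts hc
  have hP := H22Alg.PnBC.isPullback_projSpace 2 k L
  let μ : CohB1.ProjSpace 2 L ⟶ CohB1.ProjSpace 2 k :=
    Proj.map (H22Alg.PnBC.coeffMap 2 k L) (H22Alg.PnBC.irrelevant_le 2 k L)
  let ι := (hypIdeal (conicForm k c)).subschemeι
  have hsq : IsPullback (pullback.fst ι μ) (pullback.snd ι μ ≫ CohB1.ProjSpace.toSpec 2 L)
      (ι ≫ CohB1.ProjSpace.toSpec 2 k) (Spec.map (CommRingCat.ofHom (algebraMap k L))) :=
    (IsPullback.of_hasPullback ι μ).paste_vert hP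
  haveI := hgi
  haveI : IsIntegral (pullback ι μ) := GeometricallyIntegral.geometrically_isIntegral (f := ι ≫ CohB1.ProjSpace.toSpec 2 k)
    _ _ _ hsq
  obtain ⟨e, he⟩ := exists_iso_of_range_eq i (pullback.snd ι μ) (by
    rw [hrange, Scheme.Pullback.range_snd, range_hypersurface]
    ext y
    show _ ∈ y.asHomogeneousIdeal ↔ (conicForm k c).1 ∈ (μ y).asHomogeneousIdeal
    rw [← not_iff_not]
    show y ∈ Proj.basicOpen (CohB1.polyGrading 2 L) _ ↔ y ∈ μ ⁻¹ᵁ Proj.basicOpen (CohB1.polyGrading 2 k) _
    rw [Proj.map_preimage_basicOpen]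
    rw [show (H22Alg.PnBC.coeffMap 2 k L) (conicForm k c).1 = (conicForm L (algebraMap k L ∘ c)).1 from
      map_conicForm (algebraMap k L) c])
  refine ⟨e.hom ≫ pullback.fst ι μ, ?_⟩
  have h1 : IsPullback e.hom f (pullback.snd ι μ ≫ CohB1.ProjSpace.toSpec 2 L) (𝟙 _) :=
    IsPullback.of_horiz_isIso ⟨by rw [Category.comp_id, ← Category.assoc, he, hi]⟩
  have h2 := h1.paste_horiz hsq
  rwa [Category.id_comp] at h2

end

end Groth.Agent.H17.GenusZeroSt
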