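import Groth.Prelude.Def_EssDim
import Groth.Prelude.Def_StCurv
import Groth.Agent.H17.GenusZeroSt.Std
import Mathlib.RingTheory.AlgebraicIndependent.Transcendental

/-!
# Essential dimension of pointed genus zero curves
-/

set_option autoImplicit false
set_option linter.style.haveILetI false
set_option backward.isDefEq.respectTransparency false
set_option backward.isDefEq.respectTransparency.types false

universe u

open CategoryTheory CategoryTheory.Limits AlgebraicGeometry
open MvPolynomial CohB1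

namespace Groth.Agent.H17.GenusZeroSt

noncomputable section

variable (k : Type u) [Field k]

/-- The coordinate indices of the marked points. -/
def idx {n : ℕ} (i : Fin n) : Fin (1 + 1) := if (i : ℕ) = 0 then 1 else 0

theorem idx_inj {n : ℕ} (hn : n ≤ 2) {i j : Fin n} (h : idx i = idx j) : i = j := by
  have hi := i.2
  have hj := j.2
  apply Fin.ext
  by_cases h1 : (i : ℕ) = 0 <;> by_cases h2 : (j : ℕ) = 0
  · omega
  · simp [idx, h1, h2] at h
  · simp [idx, h1, h2] at h
  · omega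

/-- The standard family. -/
def stdFam (n : ℕ) (K : Type u) [Field K] [Algebra k K] : CurvSt.PtFamObj (Spec (CommRingCat.of k)) n where
  base := SGA7.pt (K := k) K
  C := ProjSpace 1 K
  f := ProjSpace.toSpec 1 K
  sect i := stdPt K (idx i)
  sect_f _ := stdPt_toSpec _

theorem stdFam_mem {n : ℕ} (hn : n ≤ 2) (K : Type u) [Field K] [Algebra k K] :
    CurvSt.IsSmoothPtdFam (stdFam k n K).f (stdFam k n K).sect 0 :=
  ⟨isCurveOfGenus_projLine K, fun _ _ hij c => stdPt_ne (fun h => hij (idx_inj hn h)) c⟩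

/-- The standard object over a field. -/
def stdObj {n : ℕ} (hn : n ≤ 2) (K : Type u) [Field K] [Algebra k K] :
    StkCnt.pts (CurvSt.Mgn (Spec (CommRingCat.of k)) 0 n) K :=
  ⟨⟨stdFam k n K, stdFam_mem k hn K⟩, rfl⟩

variable {k}

/-- An isomorphism with the line carrying the marked points to the coordinate points. -/
theorem exists_trivialization {n : ℕ} (hn₁ : 1 ≤ n) (hn : n ≤ 2) {L : Type u} [Field L] {Y : Scheme.{u}}
    (f : Y ⟶ Spec (CommRingCat.of L)) (σ : Fin n → (Spec (CommRingCat.of L) ⟶ Y)) (hσ : ∀ i, σ i ≫ f = 𝟙 _)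
    (h : CurvSt.IsSmoothPtdFam f σ 0) :
    ∃ e : Y ≅ ProjSpace 1 L, e.hom ≫ ProjSpace.toSpec 1 L = f ∧ ∀ i, σ i ≫ e.hom = stdPt L (idx i) := by
  obtain ⟨e, he⟩ := exists_iso_of_point f h.1 (σ ⟨0, hn₁⟩) (hσ _)
  have hp : ∀ i, (σ i ≫ e.hom) ≫ ProjSpace.toSpec 1 L = 𝟙 _ := fun i => by rw [Category.assoc, he, hσ]
  have hA : ∃ a : ProjSpace 1 L ≅ ProjSpace 1 L, a.hom ≫ ProjSpace.toSpec 1 L = ProjSpace.toSpec 1 L ∧
      ∀ i y, a.hom ((σ i ≫ e.hom) y) ∉ Proj.basicOpen (polyGrading 1 L) (X (idx i)) := by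
    obtain rfl | rfl : n = 1 ∨ n = 2 := by omega
    · obtain ⟨a, ha, ha'⟩ := exists_aut_point (σ 0 ≫ e.hom) (hp 0)
      refine ⟨a, ha, fun i y => ?_⟩
      obtain rfl : i = 0 := Subsingleton.elim _ _
      exact ha' y
    · obtain ⟨a, ha, ha₁, ha₀⟩ := exists_aut_pair (σ 0 ≫ e.hom) (σ 1 ≫ e.hom) (hp 0) (hp 1)
        ⟨IsLocalRing.closedPoint L, fun he' => h.2 0 1 (by decide) (IsLocalRing.closedPoint L)
          (e.hom.homeomorph.injective he')⟩
      refine ⟨a, ha, fun i y => ?_⟩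
      fin_cases i
      · exact ha₁ y
      · exact ha₀ y
  obtain ⟨a, ha, ha'⟩ := hA
  refine ⟨e ≪≫ a, by rw [Iso.trans_hom, Category.assoc, ha, he], fun i => ?_⟩
  refine eq_of_notMem _ _ (by rw [Iso.trans_hom, Category.assoc, Category.assoc, ha, he, hσ]) (stdPt_toSpec _)
    (fun y => ?_) (stdPt_notMem (idx i))
  exact ha' i y

/-- Every pointed genus zero curve maps to a standard one over any subfield. -/
theorem exists_hom_std {n : ℕ} (hn₁ : 1 ≤ n) (hn : n ≤ 2) {K L : Type u} [Field K] [Algebra k K] [Field L]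
    [Algebra k L] (ι : K →ₐ[k] L) (A : CurvSt.PtFamObj (Spec (CommRingCat.of k)) n)
    (hA : CurvSt.IsSmoothPtdFam A.f A.sect 0) (hb : A.base = SGA7.pt (K := k) L) :
    ∃ φ : A ⟶ stdFam k n K, φ.base = eqToHom hb ≫ EssDim.resPt ι := by
  obtain ⟨B, C, f, σ, hσ⟩ := A
  dsimp only at hb
  subst hb
  letI : Algebra K L := (ι : K →+* L).toAlgebra
  obtain ⟨e, he, heσ⟩ := exists_trivialization hn₁ hn f σ hσ hA
  have hP := H22Alg.PnBC.isPullback_projSpace 1 K L
  let m : ProjSpace 1 L ⟶ ProjSpace 1 K :=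
    Proj.map (H22Alg.PnBC.coeffMap 1 K L) (H22Alg.PnBC.irrelevant_le 1 K L)
  have hm : ∀ j, stdPt L j ≫ m = Spec.map (CommRingCat.ofHom (algebraMap K L)) ≫ stdPt K j := by
    intro j
    let t := hP.lift (Spec.map (CommRingCat.ofHom (algebraMap K L)) ≫ stdPt K j) (𝟙 _)
      (by rw [Category.assoc, stdPt_toSpec]; exact (Category.comp_id _).trans (Category.id_comp _).symm)
    have ht : t = stdPt L j := by
      refine eq_of_notMem (j := j) _ _ (hP.lift_snd _ _ _) (stdPt_toSpec _) (fun y hy => ?_) (stdPt_notMem j)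
      have hpre : m ⁻¹ᵁ Proj.basicOpen (polyGrading 1 K) (X j) = Proj.basicOpen (polyGrading 1 L) (X j) := by
        show Proj.map (H22Alg.PnBC.coeffMap 1 K L) _ ⁻¹ᵁ _ = _
        rw [Proj.map_preimage_basicOpen]
        exact congrArg (Proj.basicOpen (polyGrading 1 L)) (MvPolynomial.map_X _ j)
      have hy' : m (t y) ∈ Proj.basicOpen (polyGrading 1 K) (X j) := by
        rw [← hpre] at hy
        exact hy
      replace hy' : (t ≫ m) y ∈ Proj.basicOpen (polyGrading 1 K) (X j) := hy'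
      rw [show t ≫ m = _ from hP.lift_fst _ _ _, Scheme.Hom.comp_apply] at hy'
      exact stdPt_notMem j _ hy'
    rw [← ht]
    exact hP.lift_fst _ _ _
  refine ⟨⟨EssDim.resPt ι, e.hom ≫ m, ?_, fun i => ?_⟩, (Category.id_comp _).symm⟩
  · have h1 : IsPullback e.hom f (ProjSpace.toSpec 1 L) (𝟙 _) :=
      IsPullback.of_horiz_isIso ⟨by rw [Category.comp_id, he]⟩
    have h2 := h1.paste_horiz hP
    rw [Category.id_comp] at h2
    exact h2
  · show σ i ≫ e.hom ≫ m = _
    rw [← Category.assoc, heσ, hm]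
    rfl

/-- Pointed genus zero curves have essential dimension zero. -/
theorem edSt_eq_zero {n : ℕ} (hn₁ : 1 ≤ n) (hn : n ≤ 2)
    [FibCat.IsFibGrpd (CurvSt.Mgn (Spec (CommRingCat.of k)) 0 n).p] :
    EssDim.edSt (CurvSt.Mgn (Spec (CommRingCat.of k)) 0 n) = 0 := by
  refine le_antisymm (iSup_le fun L => iSup_le fun hL => iSup_le fun hA => iSup_le fun ξ => ?_) ?_
  · induction ξ using Quot.ind with
    | mk x =>
      have hd : EssDim.Descends (Gerb.isoClPsh (CurvSt.Mgn (Spec (CommRingCat.of k)) 0 n))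
          (Quot.mk (Gerb.IsoRel _ (SGA7.pt (K := k) L)) x) (⊥ : IntermediateField k L) := by
        refine (EssDim.descends_isoCl_iff _ x ⊥).2 ⟨stdObj k hn (⊥ : IntermediateField k L), ?_⟩
        obtain ⟨⟨A, hA'⟩, hx⟩ := x
        obtain ⟨φ, hφ⟩ := exists_hom_std hn₁ hn (⊥ : IntermediateField k L).val A hA' hx
        refine ⟨ObjectProperty.homMk φ, IsHomLift.of_fac' _ _ _ hx rfl ?_⟩
        rw [eqToHom_refl, Category.comp_id]
        show φ.base = _
        exact hφ
      refine WithBot.coe_le_coe.2 ((EssDim.edAt_le_of_descends hd).trans ?_)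
      haveI : Algebra.IsAlgebraic k (⊥ : IntermediateField k L) := inferInstance
      rw [trdeg_eq_zero, map_zero]
  · exact le_trans (WithBot.coe_le_coe.2 (bot_le (a := EssDim.edAt
      (Gerb.isoClPsh (CurvSt.Mgn (Spec (CommRingCat.of k)) 0 n)) (Quot.mk _ (stdObj k hn k)))))
      (EssDim.edAt_le_ed _)

end

end Groth.Agent.H17.GenusZeroSt
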