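import Groth.Agent.H17.GenusZeroSt.Classify
import Groth.Agent.H17.GenusZeroSt.Main
import Mathlib.FieldTheory.IntermediateField.Adjoin.Algebra

/-!
# Essential dimension of curves of genus zero without marked points
-/

set_option autoImplicit false
set_option linter.style.haveILetI false
set_option backward.isDefEq.respectTransparency false
set_option backward.isDefEq.respectTransparency.types false

universe u

open CategoryTheory CategoryTheory.Limits AlgebraicGeometry
open MvPolynomial CohB1 LefPen
open scoped IntermediateField.algebraAdjoinAdjoin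

namespace Groth.Agent.H17.GenusZeroSt

noncomputable section

variable {k : Type u} [Field k]

/-- A field generated by two elements has transcendence degree at most two. -/
theorem trdeg_adjoin_pair_le {L : Type u} [Field L] [Algebra k L] (a b : L) :
    Cardinal.toENat (Algebra.trdeg k (IntermediateField.adjoin k ({a, b} : Set L))) ≤ 2 := by
  let S : Set L := Set.range ![a, b]
  have hS : ({a, b} : Set L) = S := by simp [S, Set.pair_comm]
  rw [hS]
  rw [← trdeg_add_eq k (Algebra.adjoin k S) (A := IntermediateField.adjoin k S),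
    (trdeg_eq_zero_iff (R := Algebra.adjoin k S) (A := IntermediateField.adjoin k S)).2 inferInstance, add_zero]
  have hs : Function.Surjective ((MvPolynomial.aeval ![a, b]).codRestrict (Algebra.adjoin k S)
      (fun p => Algebra.adjoin_range_eq_range_aeval k ![a, b] ▸ ⟨p, rfl⟩) : MvPolynomial (Fin 2) k →ₐ[k] Algebra.adjoin k S) := by
    rintro ⟨x, hx⟩
    rw [show Algebra.adjoin k S = (MvPolynomial.aeval ![a, b]).range from Algebra.adjoin_range_eq_range_aeval k _] at hx
    obtain ⟨p, hp⟩ := hx
    exact ⟨p, Subtype.ext hp⟩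
  have h := trdeg_le_of_surjective _ hs
  rw [MvPolynomial.trdeg_of_isDomain] at h
  refine (Cardinal.toENat.monotone' h).trans (le_of_eq ?_)
  simp

/-- The family of a diagonal conic. -/
def conicFam (K : Type u) [Field K] [Algebra k K] (c : Fin (2 + 1) → K) :
    CurvSt.PtFamObj (Spec (CommRingCat.of k)) 0 where
  base := SGA7.pt (K := k) K
  C := (hypIdeal (conicForm K c)).subscheme
  f := (hypIdeal (conicForm K c)).subschemeι ≫ ProjSpace.toSpec 2 K
  sect := Fin.elim0
  sect_f i := i.elim0

variable [CharZero k]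

theorem conicFam_mem (K : Type u) [Field K] [Algebra k K] {c : Fin (2 + 1) → K} (hc : ∀ i, c i ≠ 0) :
    CurvSt.IsSmoothPtdFam (conicFam (k := k) K c).f (conicFam (k := k) K c).sect 0 :=
  haveI : CharZero K := charZero_of_injective_algebraMap (algebraMap k K).injective
  ⟨(conic_facts hc).2.2, fun i => i.elim0⟩

omit [CharZero k] in
/-- Curves with a rational point map to the line over any subfield. -/
theorem exists_hom_line {K L : Type u} [Field K] [Algebra k K] [Field L] [Algebra k L] (ι : K →ₐ[k] L)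
    (A : CurvSt.PtFamObj (Spec (CommRingCat.of k)) 0) (hb : A.base = SGA7.pt (K := k) L)
    (e : A.C ≅ ProjSpace 1 L) (he : e.hom ≫ ProjSpace.toSpec 1 L = A.f ≫ (eqToHom hb).left) :
    ∃ φ : A ⟶ stdFam k 0 K, φ.base = eqToHom hb ≫ EssDim.resPt ι := by
  obtain ⟨B, C, f, σ, hσ⟩ := A
  dsimp only at hb
  subst hb
  letI : Algebra K L := (ι : K →+* L).toAlgebra
  have hP := H22Alg.PnBC.isPullback_projSpace 1 K L
  refine ⟨⟨EssDim.resPt ι, e.hom ≫ Proj.map (H22Alg.PnBC.coeffMap 1 K L) (H22Alg.PnBC.irrelevant_le 1 K L), ?_,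
    fun i => i.elim0⟩, (Category.id_comp _).symm⟩
  have h1 : IsPullback e.hom f (ProjSpace.toSpec 1 L) (𝟙 _) :=
    IsPullback.of_horiz_isIso ⟨by rw [Category.comp_id]; exact he.trans (Category.comp_id _)⟩
  have h2 := h1.paste_horiz hP
  rw [Category.id_comp] at h2
  exact h2

/-- Every curve of genus zero is defined over a field of transcendence degree at most two. -/
theorem exists_descent {L : Type u} [Field L] [Algebra k L] (A : CurvSt.PtFamObj (Spec (CommRingCat.of k)) 0)
    (hA : CurvSt.IsSmoothPtdFam A.f A.sect 0) (hb : A.base = SGA7.pt (K := k) L) :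
    ∃ (K : IntermediateField k L) (B : CurvSt.PtFamObj (Spec (CommRingCat.of k)) 0) (hB : B.base = SGA7.pt (K := k) K),
      CurvSt.IsSmoothPtdFam B.f B.sect 0 ∧ Cardinal.toENat (Algebra.trdeg k K) ≤ 2 ∧
      ∃ φ : A ⟶ B, φ.base ≫ eqToHom hB = eqToHom hb ≫ EssDim.resPt K.val := by
  obtain ⟨B, C, f, σ, hσ⟩ := A
  dsimp only at hb
  subst hb
  haveI : CharZero L := charZero_of_injective_algebraMap (algebraMap k L).injective
  rcases exists_point_or_conic f hA.1 with ⟨s, hs⟩ | ⟨a, b, i, ha, hb', hred, hicl, hif, hrange⟩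
  · obtain ⟨e, he⟩ := exists_iso_of_point f hA.1 s hs
    obtain ⟨φ, hφ⟩ := exists_hom_line (⊥ : IntermediateField k L).val ⟨SGA7.pt (K := k) L, C, f, σ, hσ⟩ rfl e
      (he.trans (Category.comp_id _).symm)
    refine ⟨⊥, stdFam k 0 _, rfl, stdFam_mem k (Nat.zero_le 2) _, ?_, φ, ?_⟩
    · haveI : Algebra.IsAlgebraic k (⊥ : IntermediateField k L) := inferInstance
      rw [trdeg_eq_zero, map_zero]
      exact zero_le
    · rw [eqToHom_refl, Category.comp_id]
      exact hφ
  · let K := IntermediateField.adjoin k ({a, b} : Set L)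
    let c : Fin (2 + 1) → K := ![1, ⟨a, IntermediateField.subset_adjoin k _ (by simp)⟩,
      ⟨b, IntermediateField.subset_adjoin k _ (by simp)⟩]
    have hc : ∀ l, c l ≠ 0 := fun l h => by
      have h' := congrArg Subtype.val h
      fin_cases l <;> simp [c] at h'
      · exact ha h'
      · exact hb' h'
    haveI : CharZero K := charZero_of_injective_algebraMap (algebraMap k K).injective
    haveI := hred
    haveI := hicl
    have hc' : algebraMap K L ∘ c = ![1, a, b] := by
      funext l
      fin_cases l <;> rfl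
    obtain ⟨top, htop⟩ := exists_isPullback_conic (k := K) hc f i hif (by rw [hc']; exact hrange)
    refine ⟨K, conicFam K c, rfl, conicFam_mem K hc, trdeg_adjoin_pair_le a b,
      ⟨EssDim.resPt K.val, top, htop, fun i => i.elim0⟩, ?_⟩
    rw [eqToHom_refl, eqToHom_refl, Category.comp_id]
    exact (Category.id_comp _).symm

/-- The essential dimension of curves of genus zero. -/
theorem edSt_le_two [FibCat.IsFibGrpd (CurvSt.Mgn (Spec (CommRingCat.of k)) 0 0).p] :
    EssDim.edSt (CurvSt.Mgn (Spec (CommRingCat.of k)) 0 0) ≠ ⊥ ∧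
      EssDim.edSt (CurvSt.Mgn (Spec (CommRingCat.of k)) 0 0) ≤ ((2 : ℕ) : WithBot ℕ∞) := by
  refine ⟨fun h => ?_, iSup_le fun L => iSup_le fun hL => iSup_le fun hA => iSup_le fun ξ => ?_⟩
  · have h2 := EssDim.edAt_le_ed (P := Gerb.isoClPsh (CurvSt.Mgn (Spec (CommRingCat.of k)) 0 0))
      (Quot.mk _ (stdObj k (Nat.zero_le 2) k) : EssDim.FPt _ k)
    exact WithBot.coe_ne_bot (eq_bot_iff.2 (h2.trans h.le))
  · induction ξ using Quot.ind with
    | mk x =>
      obtain ⟨⟨A, hA'⟩, hx⟩ := x
      obtain ⟨K, B, hB, hBm, htr, φ, hφ⟩ := exists_descent A hA' hx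
      have hd : EssDim.Descends (Gerb.isoClPsh (CurvSt.Mgn (Spec (CommRingCat.of k)) 0 0))
          (Quot.mk (Gerb.IsoRel _ (SGA7.pt (K := k) L)) ⟨⟨A, hA'⟩, hx⟩) K :=
        (EssDim.descends_isoCl_iff _ _ K).2 ⟨⟨⟨B, hBm⟩, hB⟩, ObjectProperty.homMk φ,
          IsHomLift.of_fac' _ _ _ hx hB (by
            show φ.base = _
            rw [← cancel_mono (eqToHom hB), hφ]
            simp)⟩
      exact WithBot.coe_le_coe.2 ((EssDim.edAt_le_of_descends hd).trans (htr.trans (le_of_eq (by norm_num))))

end

end Groth.Agent.H17.GenusZeroSt
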