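import Groth.Agent.H10Coh.CISupport
import Groth.Agent.H25Transversal.Main
import Groth.Agent.H22Alg.ProjDim2
import Groth.Agent.H17.Image
import Groth.Agent.H17.GenusZeroSt.Pts

/-!
# Integral curves in the projective plane
-/

set_option autoImplicit false
set_option linter.style.haveILetI false
set_option backward.isDefEq.respectTransparency false
set_option backward.isDefEq.respectTransparency.types false

universe u

open CategoryTheory CategoryTheory.Limits AlgebraicGeometry TopologicalSpace
open MvPolynomial LefPen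

namespace Groth.Agent.H17.GenusZeroSt

noncomputable section

/-- Closed immersions of reduced schemes with the same range differ by an isomorphism. -/
theorem exists_iso_of_range_eq {X Y P : Scheme.{u}} [IsReduced X] [IsReduced Y] (i : X ⟶ P) (j : Y ⟶ P)
    [IsClosedImmersion i] [IsClosedImmersion j] (h : Set.range i = Set.range j) :
    ∃ e : X ≅ Y, e.hom ≫ j = i := by
  obtain ⟨a, ha⟩ := H17.exists_lift_of_range_subset i j h.le
  obtain ⟨b, hb⟩ := H17.exists_lift_of_range_subset j i h.ge
  exact ⟨⟨a, b, by rw [← cancel_mono i, Category.assoc, hb, ha, Category.id_comp],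
    by rw [← cancel_mono j, Category.assoc, ha, hb, Category.id_comp]⟩, ha⟩

/-- A point with values in a field lying in the range of a closed immersion lifts. -/
theorem exists_lift_point {X P : Scheme.{u}} {L : Type u} [Field L] (i : X ⟶ P) [IsClosedImmersion i]
    (s : Spec (CommRingCat.of L) ⟶ P) (h : ∀ y, s y ∈ Set.range i) :
    ∃ σ : Spec (CommRingCat.of L) ⟶ X, σ ≫ i = s :=
  H17.exists_lift_of_range_subset s i (Set.range_subset_iff.2 h)

variable {k : Type u} [Field k] {n : ℕ}

theorem range_hypersurface {d : ℕ} (G : Form n k d) :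
    Set.range (hypIdeal G).subschemeι = {y : CohB1.ProjSpace n k | G.1 ∈ y.asHomogeneousIdeal} := by
  ext y
  rw [Scheme.IdealSheafData.range_subschemeι]
  exact H10Coh.CISupport.mem_support_hypIdeal G y

theorem basicOpen_polyToSection (j : Fin (n + 1)) {m : ℕ} {a : MvPolynomial (Fin (n + 1)) k}
    (ha : a ∈ CohB1.polyGrading n k m) :
    (CohB1.ProjSpace n k).basicOpen (H25Transversal.polyToSection n k j a) =
      Proj.basicOpen (CohB1.polyGrading n k) (X j * a) := by
  rw [show H25Transversal.polyToSection n k j a = dehom (⟨a, ha⟩ : Form n k m) j from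
    H25Transversal.polyToSection_form ⟨a, ha⟩ j]
  exact H11Tilde.basicOpen_eq_of_fval (CohB1.polyGrading n k) (k := m) _ fun y _ =>
    H11Tilde.fval_awayToSection (CohB1.polyGrading n k) (X_mem n k j) m a _ y

theorem exists_polyToSection (j : Fin (n + 1)) (r : Γ(CohB1.ProjSpace n k, chart n k j)) :
    ∃ (m : ℕ) (a : MvPolynomial (Fin (n + 1)) k), a ∈ CohB1.polyGrading n k m ∧
      H25Transversal.polyToSection n k j a = r := by
  obtain ⟨z, hz⟩ := (ConcreteCategory.bijective_of_isIso
    (Proj.basicOpenIsoAway (CohB1.polyGrading n k) (X j) (X_mem n k j) one_pos).hom).2 r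
  obtain ⟨m, a, ha, rfl⟩ := HomogeneousLocalization.Away.mk_surjective (CohB1.polyGrading n k) (X_mem n k j) z
  refine ⟨m, a, by simpa using ha, ?_⟩
  rw [← hz]
  exact congrArg (fun z => (Proj.awayToSection (CohB1.polyGrading n k) (X j)).hom z)
    (H11Proj.awayProjHom_mk _ (X_mem n k j) ha)

theorem polyToSection_X_self (j : Fin (n + 1)) : H25Transversal.polyToSection n k j (X j) = 1 := by
  show (Proj.awayToSection (CohB1.polyGrading n k) (X j)).hom
    (H11Proj.awayProjHom (CohB1.polyGrading n k) (X_mem n k j) (X j)) = 1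
  rw [H11Proj.awayProjHom_self, map_one]

/-- An integral curve in the plane is cut out by one irreducible form. -/
theorem exists_form {X : Scheme.{u}} [IsIntegral X] (i : X ⟶ CohB1.ProjSpace 2 k) [IsClosedImmersion i]
    (hdim : topologicalKrullDim X = 1) :
    ∃ (d : ℕ) (F : Form 2 k d), 1 ≤ d ∧ Irreducible F.1 ∧
      (∀ g : MvPolynomial (Fin (2 + 1)) k, g ∈ (i (genericPoint X)).asHomogeneousIdeal ↔ F.1 ∣ g) ∧
      (Set.range i = {y : CohB1.ProjSpace 2 k | F.1 ∈ y.asHomogeneousIdeal}) ∧
      i.ker = hypIdeal F := by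
  let x : ProjectiveSpectrum (CohB1.polyGrading 2 k) := i (genericPoint X)
  have hcl : Set.range i = closure ({x} : Set (ProjectiveSpectrum (CohB1.polyGrading 2 k))) := by
    have h := i.isClosedEmbedding.isClosedMap.closure_image_eq_of_continuous i.continuous {genericPoint X}
    rw [show closure {genericPoint X} = (Set.univ : Set X) from genericPoint_spec X, Set.image_singleton] at h
    exact (Set.image_univ.symm.trans h.symm)
  have hq : H22Alg.ProjDim.qdim k 2 x = 2 := by
    have hd : topologicalKrullDim (closure ({x} : Set (ProjectiveSpectrum (CohB1.polyGrading 2 k)))) = 1 := by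
      rw [← hdim, IsHomeomorph.topologicalKrullDim_eq _ i.isClosedEmbedding.isEmbedding.toHomeomorph.isHomeomorph]
      exact congrArg (fun s : Set (CohB1.ProjSpace 2 k) => topologicalKrullDim s) hcl.symm
    rw [H22Alg.ProjDim.dim_closure] at hd
    have h1 : H22Alg.ProjDim.qdim k 2 x - 1 = 1 := by exact_mod_cast hd
    omega
  haveI := x.isPrime
  obtain ⟨d, f, hf, hirr, hP⟩ := H22Alg.ProjDim.exists_irreducible_form k 2 x.asHomogeneousIdeal.toIdeal
    x.asHomogeneousIdeal.isHomogeneous (by rw [H22Alg.ProjDim.qdim_spec, hq])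
  have hd1 : 1 ≤ d := by
    rcases Nat.eq_zero_or_pos d with rfl | h
    · exfalso
      rw [totalDegree_eq_zero_iff_eq_C.1 (Nat.le_zero.1 hf.totalDegree_le)] at hirr
      rcases eq_or_ne (coeff 0 f) 0 with h0 | h0
      · rw [h0, map_zero] at hirr
        exact hirr.ne_zero rfl
      · exact hirr.not_isUnit ((isUnit_iff_ne_zero.2 h0).map C)
    · exact h
  let F : Form 2 k d := ⟨f, (mem_homogeneousSubmodule d f).2 hf⟩
  have hmem : ∀ g : MvPolynomial (Fin (2 + 1)) k, g ∈ x.asHomogeneousIdeal ↔ f ∣ g := fun g => by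
    rw [← HomogeneousIdeal.mem_iff, hP, Ideal.mem_span_singleton]
  have hrange : Set.range i = {y : CohB1.ProjSpace 2 k | f ∈ y.asHomogeneousIdeal} := by
    rw [hcl]
    ext y
    refine (ProjectiveSpectrum.le_iff_mem_closure _ x y).symm.trans ⟨fun h => h ((hmem f).2 dvd_rfl), fun h => ?_⟩
    show x.asHomogeneousIdeal.toIdeal ≤ y.asHomogeneousIdeal.toIdeal
    rw [hP, Ideal.span_singleton_le_iff_mem]
    exact h
  refine ⟨d, F, hd1, hirr, hmem, hrange, ?_⟩
  have hxclosed : IsClosed (Set.range i) := i.isClosedEmbedding.isClosed_range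
  refine Scheme.IdealSheafData.ext_of_iSup_eq_top (H25Transversal.chartU 2 k)
    (H11Proj.ProjSpace.iSup_basicOpen 2 k) fun j => le_antisymm ?_ ?_
  · rw [Scheme.Hom.ker_apply, H25Transversal.hypIdeal_ideal_chart]
    intro r hr
    obtain ⟨m, a, ha, rfl⟩ := exists_polyToSection j r
    rw [RingHom.mem_ker] at hr
    have h1 : genericPoint X ∉ i ⁻¹ᵁ (CohB1.ProjSpace 2 k).basicOpen (H25Transversal.polyToSection 2 k j a) := by
      erw [Scheme.preimage_basicOpen, hr, Scheme.basicOpen_zero]
      exact id
    rw [basicOpen_polyToSection j ha] at h1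
    have h2 : MvPolynomial.X j * a ∈ x.asHomogeneousIdeal := by
      by_contra h
      exact h1 h
    rw [Ideal.mem_span_singleton, ← H25Transversal.polyToSection_form]
    rcases (x.isPrime.mem_or_mem h2).imp (hmem _).1 (hmem _).1 with ⟨b, hb⟩ | h
    · have h3 := congrArg (H25Transversal.polyToSection 2 k j) hb
      rw [polyToSection_X_self, map_mul] at h3
      exact (isUnit_of_dvd_one ⟨_, h3⟩).dvd
    · exact map_dvd _ h
  · rw [Scheme.Hom.ker_apply, H25Transversal.hypIdeal_ideal_chart, Ideal.span_singleton_le_iff_mem,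
      RingHom.mem_ker, ← basicOpen_eq_bot_iff]
    erw [← Scheme.preimage_basicOpen]
    rw [← H25Transversal.polyToSection_form, basicOpen_polyToSection j F.2, eq_bot_iff]
    intro z hz
    have hz' : f ∈ (i z).asHomogeneousIdeal := hrange.le (Set.mem_range_self z)
    exact hz ((i z).asHomogeneousIdeal.toIdeal.mul_mem_left _ hz')

/-- Evaluation of forms at a rational point. -/
theorem notMem_basicOpen_iff {j : Fin (n + 1)}
    (v : HomogeneousLocalization.Away (CohB1.polyGrading n k) (X j) →+* k) {d : ℕ} (hd : 0 < d)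
    (G : Form n k d) (y) :
    G.1 ∈ ((Spec.map (CommRingCat.ofHom v) ≫
      Proj.awayι (CohB1.polyGrading n k) (X j) (X_mem n k j) one_pos) y).asHomogeneousIdeal ↔
      v (H11Proj.ProjSpace.chartMap n k j (H11Proj.ProjSpace.dehom n k j G.1)) = 0 := by
  rw [← not_iff_not]
  rw [Scheme.Hom.comp_apply]
  show Spec.map (CommRingCat.ofHom v) y ∈
    Proj.awayι (CohB1.polyGrading n k) (X j) (X_mem n k j) one_pos ⁻¹ᵁ Proj.basicOpen (CohB1.polyGrading n k) G.1 ↔ _
  rw [Proj.awayι_preimage_basicOpen (CohB1.polyGrading n k) (X_mem n k j) one_pos G.2 hd]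
  have h : HomogeneousLocalization.Away.isLocalizationElem (X_mem n k j) G.2 =
      H11Proj.ProjSpace.chartMap n k j (H11Proj.ProjSpace.dehom n k j G.1) := by
    have hG' : G.1 ∈ CohB1.polyGrading n k (d • 1) := by rw [smul_eq_mul, mul_one]; exact G.2
    rw [← RingHom.comp_apply, H11Proj.ProjSpace.chartMap_comp_dehom, H11Proj.awayProjHom_mk _ _ hG']
    apply HomogeneousLocalization.val_injective
    rw [HomogeneousLocalization.Away.val_mk, HomogeneousLocalization.Away.val_mk]
    simp
  change v (HomogeneousLocalization.Away.isLocalizationElem (X_mem n k j) G.2) ∉ y.asIdeal ↔ _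
  rw [h, Subsingleton.elim (α := PrimeSpectrum k) y ⊥]
  simp

/-- A nonzero zero of a form gives a rational point of its zero set. -/
theorem exists_point_of_zero {d : ℕ} (hd : 0 < d) (G : Form n k d) (w : Fin (n + 1) → k) (hw : w ≠ 0)
    (h0 : eval w G.1 = 0) :
    ∃ s : Spec (CommRingCat.of k) ⟶ CohB1.ProjSpace n k, s ≫ CohB1.ProjSpace.toSpec n k = 𝟙 _ ∧
      ∀ y, G.1 ∈ (s y).asHomogeneousIdeal := by
  obtain ⟨j, hj⟩ := Function.ne_iff.1 hw
  simp only [Pi.zero_apply] at hj
  let e := RingEquiv.ofBijective _ (H11Proj.ProjSpace.chartMap_bijective n k j)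
  let v : HomogeneousLocalization.Away (CohB1.polyGrading n k) (X j) →+* k :=
    (eval fun l : {l : Fin (n + 1) // l ≠ j} => w l / w j).comp e.symm.toRingHom
  have hv : ∀ p, v (H11Proj.ProjSpace.chartMap n k j p) = eval (fun l : {l // l ≠ j} => w l / w j) p := fun p => by
    show eval _ (e.symm (e p)) = _
    rw [e.symm_apply_apply]
  refine ⟨Spec.map (CommRingCat.ofHom v) ≫ Proj.awayι (CohB1.polyGrading n k) (X j) (X_mem n k j) one_pos, ?_,
    fun y => ?_⟩
  · rw [Category.assoc]
    erw [H11Proj.ProjSpace.awayι_toSpec]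
    rw [← Spec.map_comp, ← Spec.map_id]
    congr 1
    refine CommRingCat.hom_ext (RingHom.ext fun r => ?_)
    exact (hv (C r)).trans (eval_C r)
  · refine (notMem_basicOpen_iff v hd G y).2 ?_
    rw [hv]
    have key : ∀ p : MvPolynomial (Fin (n + 1)) k,
        eval (fun l : {l // l ≠ j} => w l / w j) (H11Proj.ProjSpace.dehom n k j p) = eval ((w j)⁻¹ • w) p := by
      intro p
      induction p using MvPolynomial.induction_on with
      | C c => simp [H11Proj.ProjSpace.dehom]
      | add p q hp hq => simp [hp, hq]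
      | mul_X p i hp =>
        rw [map_mul, map_mul, hp, map_mul, eval_X]
        congr 1
        by_cases hi : i = j
        · subst hi; simp [H11Proj.ProjSpace.dehom, inv_mul_cancel₀ hj]
        · simp [H11Proj.ProjSpace.dehom, hi, div_eq_inv_mul]
    rw [key]
    have hG : G.1.IsHomogeneous d := (mem_homogeneousSubmodule d _).1 G.2
    rw [show ((w j)⁻¹ • w) = fun l => (w j)⁻¹ * w l from rfl]
    rw [eval_eq] at h0 ⊢
    calc _ = (w j)⁻¹ ^ d * ∑ m ∈ G.1.support, coeff m G.1 * ∏ i ∈ m.support, w i ^ m i := by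
          rw [Finset.mul_sum]
          refine Finset.sum_congr rfl fun m hm => ?_
          rw [show (w j)⁻¹ ^ d = (w j)⁻¹ ^ (∑ i ∈ m.support, m i) from
              congrArg ((w j)⁻¹ ^ ·) (hG.degree_eq_sum_deg_support hm), ← Finset.prod_pow_eq_pow_sum, mul_left_comm, ← Finset.prod_mul_distrib]
          simp [mul_pow]
      _ = 0 := by rw [h0, mul_zero]

end

end Groth.Agent.H17.GenusZeroSt
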