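import Groth.Agent.H17.GenusZeroSt.Tsen
import Groth.Agent.H17.BiratOver
import Groth.Agent.H25REq.Spread
import Groth.Agent.H12Pic.FinKer.CurveProd
import Groth.Agent.H28Curve.ProjLine
import Groth.Agent.H11QMap.ClosedKer

/-!
# Genus zero fibrations over curves are birational to products with the line
-/

set_option autoImplicit false
set_option linter.style.haveILetI false
set_option backward.isDefEq.respectTransparency false
set_option backward.isDefEq.respectTransparency.types false
set_option maxHeartbeats 800000

universe u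

open CategoryTheory CategoryTheory.Limits AlgebraicGeometry TopologicalSpace

namespace Groth.Agent.H17.GenusZeroSt

noncomputable section

theorem isIso_stalkMap_genericPoint {F X : Scheme.{u}} [IsIntegral F] [IsIntegral X] (a : F ⟶ X) [IsPreimmersion a]
    (ha : a (genericPoint F) = genericPoint X) : IsIso (a.stalkMap (genericPoint F)) := by
  refine (ConcreteCategory.isIso_iff_bijective _).2 ⟨?_, a.stalkMap_surjective _⟩
  have hf : IsField (X.presheaf.stalk (a (genericPoint F))) := by
    rw [ha]
    exact Field.toIsField X.functionField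
  letI := hf.toField
  exact RingHom.injective (a.stalkMap (genericPoint F)).hom

/-- Integral schemes sharing a generic fibre are birational. -/
theorem birationalOver_of_common {S X Y F : Scheme.{u}} (sX : X ⟶ S) (sY : Y ⟶ S)
    [LocallyOfFinitePresentation sX] [LocallyOfFinitePresentation sY] [IsIntegral X] [IsIntegral Y] [IsIntegral F]
    (a : F ⟶ X) (b : F ⟶ Y) [IsPreimmersion a] [IsPreimmersion b] (h : a ≫ sX = b ≫ sY)
    (ha : a (genericPoint F) = genericPoint X) (hb : b (genericPoint F) = genericPoint Y) :
    Scheme.BirationalOver sX sY := by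
  let w := genericPoint F
  haveI : IsIso (a.stalkMap w) := isIso_stalkMap_genericPoint a ha
  haveI : IsIso (b.stalkMap w) := isIso_stalkMap_genericPoint b hb
  have hs : sX (a w) = sY (b w) := by rw [← Scheme.Hom.comp_apply, h, Scheme.Hom.comp_apply]
  let e : X.presheaf.stalk (a w) ≅ Y.presheaf.stalk (b w) := asIso (a.stalkMap w) ≪≫ (asIso (b.stalkMap w)).symm
  have h1 : sY.stalkMap (b w) ≫ b.stalkMap w =
      S.presheaf.stalkSpecializes (Inseparable.of_eq hs).specializes ≫ sX.stalkMap (a w) ≫ a.stalkMap w := by
    have h2 := Scheme.Hom.stalkMap_congr_hom _ _ h.symm w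
    rw [Scheme.Hom.stalkMap_comp, Scheme.Hom.stalkMap_comp] at h2
    exact h2
  have h1' : sX.stalkMap (a w) ≫ a.stalkMap w =
      S.presheaf.stalkSpecializes (Inseparable.of_eq hs.symm).specializes ≫ sY.stalkMap (b w) ≫ b.stalkMap w := by
    have h2 := Scheme.Hom.stalkMap_congr_hom _ _ h w
    rw [Scheme.Hom.stalkMap_comp, Scheme.Hom.stalkMap_comp] at h2
    exact h2
  obtain ⟨U, hxU, f, hf, hfs⟩ := H17.spread_out sX sY hs e.inv (by
    rw [show e.inv = b.stalkMap w ≫ inv (a.stalkMap w) from rfl, ← Category.assoc, h1, Category.assoc,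
      Category.assoc, IsIso.hom_inv_id, Category.comp_id])
  obtain ⟨V, hyV, g, hg, hgs⟩ := H17.spread_out sY sX hs.symm e.hom (by
    rw [show e.hom = a.stalkMap w ≫ inv (b.stalkMap w) from rfl, ← Category.assoc, h1', Category.assoc,
      Category.assoc, IsIso.hom_inv_id, Category.comp_id])
  exact H17.BiratOver.birationalOver_of_spread sX sY hxU f hfs hyV g hgs e hf hg

variable {k : Type u} [Field k] [IsAlgClosed k]

/-- A genus zero fibration over a curve is birational to the product with the line. -/
theorem exists_opens_iso_product {X B : Scheme.{u}} [X.Over (Spec (CommRingCat.of k))] [B.Over (Spec (CommRingCat.of k))]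
    [IsIntegral X] [IsIntegral B] [IsProper (X ↘ Spec (CommRingCat.of k))]
    (hX : topologicalKrullDim X = 2) (hB : Curve.IsSmoothProperCurve k B (B ↘ Spec (CommRingCat.of k)))
    (π : X ⟶ B) (hπ : π ≫ (B ↘ Spec (CommRingCat.of k)) = X ↘ Spec (CommRingCat.of k))
    (hsurj : Function.Surjective π) [GeometricallyIntegral (π.fiberToSpecResidueField (genericPoint B))]
    (hgen : letI : (π.fiber (genericPoint B)).Over (Spec (B.residueField (genericPoint B))) :=
        ⟨π.fiberToSpecResidueField (genericPoint B)⟩
      Curv2.genus (B.residueField (genericPoint B)) (π.fiber (genericPoint B)) = 0) :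
    ∃ (U : X.Opens) (W : (pullback (B ↘ Spec (CommRingCat.of k)) (CohB1.ProjSpace.toSpec 1 k)).Opens)
      (e : (U : Scheme.{u}) ≅ (W : Scheme.{u})), (U : Set X).Nonempty ∧
      e.hom ≫ W.ι ≫ pullback.fst (B ↘ Spec (CommRingCat.of k)) (CohB1.ProjSpace.toSpec 1 k) = U.ι ≫ π := by
  obtain ⟨σ, hσ⟩ := exists_section_fibration hX hB π hπ hsurj hgen
  obtain ⟨hBp, hBs, -, hBd⟩ := hB
  haveI := hBp
  haveI := hBs
  haveI : IsProper π := by
    haveI : IsProper (π ≫ (B ↘ Spec (CommRingCat.of k))) := by rw [hπ]; infer_instance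
    exact IsProper.of_comp π (B ↘ Spec (CommRingCat.of k))
  haveI : IsLocallyNoetherian B := LocallyOfFiniteType.isLocallyNoetherian (B ↘ Spec (CommRingCat.of k))
  let b := genericPoint B
  let K := B.residueField b
  let q := π.fiberToSpecResidueField b
  haveI : GeometricallyIntegral q := ‹_›
  haveI : IsProper q := inferInstanceAs (IsProper (pullback.snd π _))
  haveI : IsIntegral (π.fiber b) :=
    GeometricallyIntegral.geometrically_isIntegral (f := q) (𝟙 _) (𝟙 (π.fiber b)) q
      (IsPullback.of_horiz_isIso ⟨by simp⟩)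
  have hdim := dim_genericFibre hX hBd π hπ hsurj
  letI : (π.fiber b).Over (Spec (CommRingCat.of K)) := ⟨q⟩
  haveI : IsProper ((π.fiber b) ↘ Spec (CommRingCat.of K)) := inferInstanceAs (IsProper q)
  haveI : GeometricallyIntegral ((π.fiber b) ↘ Spec (CommRingCat.of K)) := inferInstanceAs (GeometricallyIntegral q)
  haveI : Smooth q := H29GenusZero.smooth_of_genus_zero hdim hgen
  haveI : GeometricallyIrreducible q := inferInstance
  haveI := H29GenusZero.geometricallyConnected_of_irreducible q
  -- the rational point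
  let s₀ : Spec (CommRingCat.of K) ⟶ π.fiber b := pullback.lift (B.fromSpecResidueField b ≫ σ) (𝟙 _)
    (by rw [Category.assoc, hσ, Category.comp_id]; exact (Category.id_comp _).symm)
  obtain ⟨φ, hφ⟩ := H29GenusZero.exists_iso_of_section hdim hgen s₀ (pullback.lift_snd _ _ _)
    (fun p => H19Grp.isRegularLocalRing_stalk_of_smooth q _)
  -- the product
  let sB := B ↘ Spec (CommRingCat.of k)
  letI : Algebra k K := (Curv2.resMap k B b).toAlgebra
  have hPb := H22Alg.PnBC.isPullback_projSpace 1 k K
  let μ : CohB1.ProjSpace 1 K ⟶ CohB1.ProjSpace 1 k :=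
    Proj.map (H22Alg.PnBC.coeffMap 1 k K) (H22Alg.PnBC.irrelevant_le 1 k K)
  let P := pullback sB (CohB1.ProjSpace.toSpec 1 k)
  let pr : P ⟶ B := pullback.fst _ _
  haveI : Smooth (CohB1.ProjSpace.toSpec 1 k) := H26Smooth.smooth_toSpec 1 k
  haveI : IsIntegral (CohB1.ProjSpace 1 k) := (H28Curve.projLine_facts k).1
  haveI : IsIntegral P := H12Pic.FinKer.isIntegral_prod sB (CohB1.ProjSpace.toSpec 1 k)
  let j : CohB1.ProjSpace 1 K ⟶ P := pullback.lift (CohB1.ProjSpace.toSpec 1 K ≫ B.fromSpecResidueField b) μ
    (by rw [Category.assoc, H22Alg.VarDim.fromSpecResidueField_over]; exact hPb.w.symm)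
  have hj : IsPullback j (CohB1.ProjSpace.toSpec 1 K) pr (B.fromSpecResidueField b) := by
    refine IsPullback.of_right ?_ (pullback.lift_fst _ _ _) (IsPullback.of_hasPullback sB (CohB1.ProjSpace.toSpec 1 k)).flip
    rw [pullback.lift_snd, H22Alg.VarDim.fromSpecResidueField_over]
    exact hPb
  haveI : IsPreimmersion j := MorphismProperty.of_isPullback (P := @IsPreimmersion) hj.flip inferInstance
  haveI : IsIntegral (CohB1.ProjSpace 1 K) := (H28Curve.projLine_facts K).1
  have hrange : Set.range j = pr ⁻¹' {b} := by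
    rw [H11QMap.range_fst_of_isPullback hj]; exact congrArg (pr ⁻¹' ·) (B.range_fromSpecResidueField b)
  have hbgen : (φ.hom ≫ j) (genericPoint (π.fiber b)) = genericPoint P := by
    refine ((genericPoint_spec P).eq ?_).symm
    refine Set.eq_univ_of_univ_subset ((dense_iff_closure_eq.1
      (H25REq.dense_fibre pr pr.isOpenMap)).symm.le.trans (closure_minimal ?_ isClosed_closure))
    rw [← hrange]
    rintro _ ⟨y, rfl⟩
    obtain ⟨y', rfl⟩ := φ.hom.homeomorph.surjective y
    exact (((genericPoint_spec (π.fiber b)).specializes trivial).map (φ.hom ≫ j).continuous).mem_closure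
  have hagen : π.fiberι b (genericPoint (π.fiber b)) = genericPoint X := by
    have hx : π (genericPoint X) = b := by
      obtain ⟨x', hx'⟩ := hsurj b
      refine Specializes.antisymm ?_ ((genericPoint_spec B).specializes trivial) |>.eq
      exact (((genericPoint_spec X).specializes (trivial : x' ∈ (Set.univ : Set X))).map π.continuous).trans
        (specializes_of_eq hx')
    obtain ⟨y, hy⟩ : genericPoint X ∈ Set.range (π.fiberι b) := by rw [π.range_fiberι b]; exact hx
    refine ((genericPoint_spec X).eq ?_).symm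
    refine Set.eq_univ_of_univ_subset ((genericPoint_spec X).symm.le.trans
      (closure_minimal (Set.singleton_subset_iff.2 ?_) isClosed_closure))
    rw [← hy]
    exact (((genericPoint_spec (π.fiber b)).specializes trivial).map (π.fiberι b).continuous).mem_closure
  have hcomm : π.fiberι b ≫ π = (φ.hom ≫ j) ≫ pr := by
    rw [Category.assoc, hj.w, ← Category.assoc]
    erw [hφ]
    exact π.fiber_fac b
  obtain ⟨F, hF⟩ := birationalOver_of_common π pr (π.fiberι b) (φ.hom ≫ j) hcomm hagen hbgen
  exact ⟨F.source, F.target, F.iso, F.dense_source.nonempty, hF⟩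

end

end Groth.Agent.H17.GenusZeroSt
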