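import Groth.Agent.H17.GenusZeroSt.Classify
import Groth.Agent.H29GenusZero.Basic
import Groth.Agent.H22Alg.VarDim
import Groth.Agent.H21SubEq.Spread
import Groth.Agent.H12Pic.FinKer.Ample
import Groth.Agent.H19Grp.RegularSmooth
import Groth.Agent.H29Ref.Hartogs
import Groth.Agent.S0212
import Groth.Agent.S2344
import Groth.Prelude.Def_Curve
import Mathlib.AlgebraicGeometry.Fiber

/-!
# Sections of genus zero fibrations over curves (Tsen)
-/

set_option autoImplicit false
set_option linter.style.haveILetI false
set_option backward.isDefEq.respectTransparency false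
set_option backward.isDefEq.respectTransparency.types false
set_option maxHeartbeats 800000

universe u

open CategoryTheory CategoryTheory.Limits AlgebraicGeometry TopologicalSpace
open MvPolynomial LefPen

namespace Groth.Agent.H17.GenusZeroSt

noncomputable section

variable {k : Type u} [Field k] [IsAlgClosed k]

/-- The function field of a curve over an algebraically closed field is `C₁`. -/
theorem isCi_one_residueField (B : Scheme.{u}) [B.Over (Spec (CommRingCat.of k))] [IsIntegral B]
    [LocallyOfFiniteType (B ↘ Spec (CommRingCat.of k))] (hdim : topologicalKrullDim B = 1) :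
    Curves.IsCi (B.residueField (genericPoint B)) 1 := by
  letI := (Curv2.resMap k B (genericPoint B)).toAlgebra
  obtain ⟨s, hs, hs'⟩ := H22Alg.VarDim.exists_cdim_trdeg k B (genericPoint B)
  have h1 : s = 1 := by
    have h := hs.symm.trans ((H22Alg.VarDim.cdim_genericPoint B).trans hdim)
    exact_mod_cast h
  subst h1
  exact Groth.Agent.S0212.result k (B.residueField (genericPoint B)) 1 hs'

omit [IsAlgClosed k] in
/-- The generic fibre of a dominant fibration of a surface over a curve has dimension one. -/
theorem dim_genericFibre {X B : Scheme.{u}} [X.Over (Spec (CommRingCat.of k))] [B.Over (Spec (CommRingCat.of k))]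
    [IsIntegral X] [IsIntegral B] [LocallyOfFiniteType (X ↘ Spec (CommRingCat.of k))]
    [LocallyOfFiniteType (B ↘ Spec (CommRingCat.of k))]
    (hX : topologicalKrullDim X = 2) (hB : topologicalKrullDim B = 1)
    (π : X ⟶ B) (hπ : π ≫ (B ↘ Spec (CommRingCat.of k)) = X ↘ Spec (CommRingCat.of k))
    (hsurj : Function.Surjective π) [IsIntegral (π.fiber (genericPoint B))] :
    topologicalKrullDim (π.fiber (genericPoint B)) = 1 := by
  haveI : LocallyOfFiniteType π := by
    haveI : LocallyOfFiniteType (π ≫ (B ↘ Spec (CommRingCat.of k))) := by rw [hπ]; infer_instance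
    exact locallyOfFiniteType_of_comp π (B ↘ Spec (CommRingCat.of k))
  let b := genericPoint B
  let F := π.fiber b
  let ι := π.fiberι b
  let q := π.fiberToSpecResidueField b
  let x := genericPoint X
  have hx : π x = b := by
    obtain ⟨x', hx'⟩ := hsurj b
    refine Specializes.antisymm ?_ ((genericPoint_spec B).specializes trivial) |>.eq
    exact (((genericPoint_spec X).specializes (trivial : x' ∈ (Set.univ : Set X))).map π.continuous).trans
      (specializes_of_eq hx')
  -- the generic point of the fibre
  obtain ⟨y, hy⟩ : x ∈ Set.range ι := by rw [π.range_fiberι b]; exact hx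
  have hyg : genericPoint F = y := by
    refine (genericPoint_spec F).eq ?_
    refine Set.eq_univ_of_univ_subset fun z _ => ?_
    refine (specializes_iff_mem_closure.1 ((π.fiberι b).isEmbedding.isInducing.specializes_iff.1 ?_))
    rw [hy]
    exact (genericPoint_spec X).specializes trivial
  letI := (Curv2.resMap k B b).toAlgebra
  let L := X.residueField x
  letI : Algebra (B.residueField b) L :=
    ((B.residueFieldCongr hx.symm).hom ≫ π.residueFieldMap x).hom.toAlgebra
  let e : Spec (CommRingCat.of L) ⟶ F :=
    pullback.lift (X.fromSpecResidueField x) (Spec.map ((B.residueFieldCongr hx.symm).hom ≫ π.residueFieldMap x))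
      (by rw [Spec.map_comp, Category.assoc, Scheme.residueFieldCongr_fromSpecResidueField,
        Scheme.Hom.SpecMap_residueFieldMap_fromSpecResidueField])
  have he : e ≫ ι = X.fromSpecResidueField x := pullback.lift_fst _ _ _
  have heq : e ≫ q = Spec.map (CommRingCat.ofHom (algebraMap (B.residueField b) L)) := pullback.lift_snd _ _ _
  haveI : IsPreimmersion (e ≫ ι) := by rw [he]; infer_instance
  haveI : IsPreimmersion e := IsPreimmersion.of_comp e ι
  haveI : LocallyOfFiniteType q := inferInstanceAs (LocallyOfFiniteType (pullback.snd π _))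
  obtain ⟨s, hs, hs'⟩ := H8Props.FieldDim.exists_trdeg (k := B.residueField b) q (L := L) e heq (IsLocalRing.closedPoint L)
  have hey : e (IsLocalRing.closedPoint L) = y := by
    apply (π.fiberι b).isEmbedding.injective
    rw [hy, ← Scheme.Hom.comp_apply, he]
    exact Scheme.fromSpecResidueField_apply _ _
  rw [hey, ← hyg] at hs
  have hdimF : topologicalKrullDim F = s := by
    rw [← hs, H8Props.FieldDim.cdim, genericPoint_closure]
    exact (IsHomeomorph.topologicalKrullDim_eq _ (Homeomorph.Set.univ F).isHomeomorph).symm
  -- additivity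
  letI : Algebra k L := (Curv2.resMap k X x).toAlgebra
  haveI : IsScalarTower k (B.residueField b) L := IsScalarTower.of_algebraMap_eq' (by
    have h1 : Spec.map (CommRingCat.ofHom (algebraMap (B.residueField b) L)) ≫ B.fromSpecResidueField b =
        X.fromSpecResidueField x ≫ π := by rw [← he, ← heq, Category.assoc, Category.assoc, π.fiber_fac b]
    have h2 := congrArg (· ≫ (B ↘ Spec (CommRingCat.of k))) h1
    simp only [Category.assoc, hπ, H22Alg.VarDim.fromSpecResidueField_over, ← Spec.map_comp] at h2
    exact (congrArg CommRingCat.Hom.hom (Spec.map_injective h2)).symm)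
  obtain ⟨sX, hsX, hsX'⟩ := H22Alg.VarDim.exists_cdim_trdeg k X x
  obtain ⟨sB, hsB, hsB'⟩ := H22Alg.VarDim.exists_cdim_trdeg k B b
  rw [H22Alg.VarDim.cdim_genericPoint, hX] at hsX
  rw [H22Alg.VarDim.cdim_genericPoint, hB] at hsB
  obtain rfl : sX = 2 := by exact_mod_cast hsX.symm
  obtain rfl : sB = 1 := by exact_mod_cast hsB.symm
  have hadd := trdeg_add_eq k (B.residueField b) (A := L)
  rw [hsB', hs', hsX'] at hadd
  have hs1 : s = 1 := by
    have h : 1 + s = 2 := by exact_mod_cast hadd
    omega
  rw [hs1] at hdimF
  exact_mod_cast hdimF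

/-- A fibration of genus zero over a curve has a section (Tsen). -/
theorem exists_section_fibration {X B : Scheme.{u}} [X.Over (Spec (CommRingCat.of k))] [B.Over (Spec (CommRingCat.of k))]
    [IsIntegral X] [IsIntegral B] [IsProper (X ↘ Spec (CommRingCat.of k))]
    (hX : topologicalKrullDim X = 2) (hB : Curve.IsSmoothProperCurve k B (B ↘ Spec (CommRingCat.of k)))
    (π : X ⟶ B) (hπ : π ≫ (B ↘ Spec (CommRingCat.of k)) = X ↘ Spec (CommRingCat.of k))
    (hsurj : Function.Surjective π) [GeometricallyIntegral (π.fiberToSpecResidueField (genericPoint B))]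
    (hgen : letI : (π.fiber (genericPoint B)).Over (Spec (B.residueField (genericPoint B))) :=
        ⟨π.fiberToSpecResidueField (genericPoint B)⟩
      Curv2.genus (B.residueField (genericPoint B)) (π.fiber (genericPoint B)) = 0) :
    ∃ σ : B ⟶ X, σ ≫ π = 𝟙 B := by
  obtain ⟨hBp, hBs, -, hBd⟩ := hB
  haveI := hBp
  haveI := hBs
  haveI : IsProper π := by
    haveI : IsProper (π ≫ (B ↘ Spec (CommRingCat.of k))) := by rw [hπ]; infer_instance
    exact IsProper.of_comp π (B ↘ Spec (CommRingCat.of k))
  haveI : IsLocallyNoetherian B := LocallyOfFiniteType.isLocallyNoetherian (B ↘ Spec (CommRingCat.of k))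
  haveI : LocallyOfFinitePresentation π := inferInstance
  let b := genericPoint B
  let q := π.fiberToSpecResidueField b
  haveI : GeometricallyIntegral q := ‹_›
  haveI : IsProper q := inferInstanceAs (IsProper (pullback.snd π _))
  haveI : IsIntegral (π.fiber b) :=
    GeometricallyIntegral.geometrically_isIntegral (f := q) (𝟙 _) (𝟙 (π.fiber b)) q
      (IsPullback.of_horiz_isIso ⟨by simp⟩)
  have hdim := dim_genericFibre hX hBd π hπ hsurj
  letI : (π.fiber b).Over (Spec (CommRingCat.of (B.residueField b))) := ⟨q⟩
  haveI : IsProper ((π.fiber b) ↘ Spec (CommRingCat.of (B.residueField b))) := inferInstanceAs (IsProper q)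
  haveI : GeometricallyIntegral ((π.fiber b) ↘ Spec (CommRingCat.of (B.residueField b))) :=
    inferInstanceAs (GeometricallyIntegral q)
  haveI : Smooth q := H29GenusZero.smooth_of_genus_zero hdim hgen
  haveI : GeometricallyIrreducible q := inferInstance
  haveI : GeometricallyConnected q := H29GenusZero.geometricallyConnected_of_irreducible q
  obtain ⟨i, G, -, hicl, hiq, hrange⟩ := exists_plane_of_integral q hdim hgen
  haveI := hicl
  obtain ⟨w, hw, h0⟩ := isCi_one_residueField (k := k) B hBd 1 (2 + 1) (fun _ => G.1) (fun _ => 2)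
    (fun _ => (mem_homogeneousSubmodule 2 _).1 G.2) (fun _ => two_pos) (by simp)
  obtain ⟨s, hs⟩ := exists_section_of_zero q i hiq two_pos G hrange w hw (h0 0)
  let s' : Spec (B.residueField b) ⟶ X := s ≫ π.fiberι b
  have hs' : s' ≫ π = B.fromSpecResidueField b := by
    rw [Category.assoc, π.fiber_fac b, ← Category.assoc]
    erw [hs]
    exact Category.id_comp _
  have hf : IsField (B.presheaf.stalk b) := Field.toIsField B.functionField
  haveI : IsIso (B.residue b) := (ConcreteCategory.isIso_iff_bijective (B.residue b)).2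
    ⟨letI := hf.toField; RingHom.injective _, Ideal.Quotient.mk_surjective⟩
  obtain ⟨U, hbU, σU, hσU⟩ := H21SubEq.exists_nhd_lift_of_stalk π b (Spec.map (inv (B.residue b)) ≫ s') (by
    rw [Category.assoc, hs']
    show _ ≫ Spec.map (B.residue b) ≫ _ = _
    rw [← Category.assoc, ← Spec.map_comp, IsIso.hom_inv_id, Spec.map_id, Category.id_comp])
  have hUd : Dense (U : Set B) := U.2.dense ⟨b, hbU⟩
  obtain ⟨σ, ⟨hσ, hσk⟩, -⟩ := Groth.Agent.S2344.result k B X
    (fun z hz => (H12Pic.FinKer.ringKrullDim_stalk_closed (B ↘ Spec (CommRingCat.of k)) hz).trans hBd)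
    (H29Ref.isNormalScheme_of_regular fun z => H19Grp.isRegularLocalRing_stalk_of_smooth (B ↘ Spec (CommRingCat.of k)) z)
    U hUd σU (by rw [← hπ, ← Category.assoc, hσU])
  refine ⟨σ, ?_⟩
  haveI : IsDominant U.ι := ⟨by rw [DenseRange, Scheme.Opens.range_ι]; exact hUd⟩
  exact ext_of_isDominant_of_isSeparated (B ↘ Spec (CommRingCat.of k))
    (by rw [Category.assoc, hπ, hσk, Category.id_comp]) U.ι (by rw [← Category.assoc, hσ, hσU, Category.comp_id])

end

end Groth.Agent.H17.GenusZeroSt
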